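import Mathlib
import Cfsg.Agent.OddHalf.SpN.OutTri

/-!
# THEOREM F1-h1 (OMEGA #14479), `Sp_2n(q)`: the subgroups `Q_s, U_s, U_l, Q_s U_l` of `Sp_2n(F)` (helper678)

`p, q : Ix n` with `|p| ≠ |q|` (later `p = 1`, `q = 2`), `E = ⟨e_p, e_q⟩`, `Prp v` : `v ∈ E^⊥`.

* `QS = {A | A e_p = e_p, A e_q = e_q, [E^⊥, A] ≤ E}`, `US = {A | [E^⊥, A] = 0}`,
* `UL = {A | A e_p = e_p, [e_p^⊥, A] ≤ ⟨e_p⟩}`, `QSL = {A | A e_p = e_p, A e_q ∈ e_q + ⟨e_p⟩, [E^⊥, A] ≤ E}`;
* `uu p b a` (`(b, e_p) = 0`) : the elements of `UL`.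
-/

set_option autoImplicit false

namespace Cfsg.Agent.Omega.All.SpN

open Cfsg Cfsg.Agent.ClassicalGeometry.SympBasic Cfsg.Agent.ClassicalGeometry.SympAutSemi
open Cfsg.Agent.OddHalf.SpN Cfsg.Agent.OddHalf.SpN.Out
open scoped Matrix commutatorElement

variable {n : ℕ} {F : Type*} [Field F]

section lin

variable (A B : Sy n F) (u v : Ix n → F) (a : F)

theorem radd : rho n F A (u + v) = rho n F A u + rho n F A v := (SI.of_rho A).add u v

theorem rsmul : rho n F A (a • v) = a • rho n F A v := (SI.of_rho A).smul a v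

theorem rzero : rho n F A 0 = 0 := (SI.of_rho A).zero

theorem rsub : rho n F A (u - v) = rho n F A u - rho n F A v := SI.sub (SI.of_rho A) u v

theorem rmul : rho n F (A * B) v = rho n F A (rho n F B v) := by rw [map_mul, Equiv.Perm.mul_apply]

theorem rone : rho n F (1 : Sy n F) v = v := by rw [map_one, Equiv.Perm.one_apply]

theorem rform : sympForm n F (rho n F A u) (rho n F A v) = sympForm n F u v := sympForm_rho A u v

theorem rinv_self : rho n F A⁻¹ (rho n F A v) = v := by rw [← rmul, inv_mul_cancel, rone]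

theorem rself_inv : rho n F A (rho n F A⁻¹ v) = v := by rw [← rmul, mul_inv_cancel, rone]

variable {A B}

theorem rext (h : ∀ v, rho n F A v = rho n F B v) : A = B := rho_injective (Equiv.ext h)

/-- the inverse fixes the same vectors -/
theorem rinv_fix {v : Ix n → F} (h : rho n F A v = v) : rho n F A⁻¹ v = v := by
  conv_lhs => rw [← h]
  rw [rinv_self]

end lin

section form

variable [CharP F 2]

theorem fsymm (u v : Ix n → F) : sympForm n F u v = sympForm n F v u := by
  have h1 := sympForm_self (m := n) (F := F) (u + v)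
  rw [sympForm_add_left, sympForm_add_right, sympForm_add_right, sympForm_self, sympForm_self, zero_add,
    add_zero] at h1
  exact CharTwo.add_eq_zero.1 h1

theorem form_be' (v : Ix n → F) (i : Ix n) : sympForm n F (be n F i) v = v (neg i) := by
  rw [fsymm, form_be]

end form

/-- the plane `E = ⟨e_p, e_q⟩` -/
def InE (p q : Ix n) (v : Ix n → F) : Prop := ∃ a b : F, v = a • be n F p + b • be n F q

/-- `E^⊥` -/
def Prp (p q : Ix n) (v : Ix n → F) : Prop := v (neg p) = 0 ∧ v (neg q) = 0

/-- the line `⟨e_p⟩` -/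
def InL (p : Ix n) (v : Ix n → F) : Prop := ∃ a : F, v = a • be n F p

section pred

variable {p q : Ix n} {u v : Ix n → F}

theorem InE.zero : InE p q (0 : Ix n → F) := ⟨0, 0, by simp⟩

theorem InE.add (hu : InE p q u) (hv : InE p q v) : InE p q (u + v) := by
  obtain ⟨a, b, rfl⟩ := hu
  obtain ⟨c, d, rfl⟩ := hv
  exact ⟨a + c, b + d, by rw [add_smul, add_smul]; abel⟩

theorem InE.smul (c : F) (hv : InE p q v) : InE p q (c • v) := by
  obtain ⟨a, b, rfl⟩ := hv
  exact ⟨c * a, c * b, by rw [smul_add, smul_smul, smul_smul]⟩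

theorem InE.opp (hv : InE p q v) : InE p q (-v) := by
  have := hv.smul (-1)
  rwa [neg_one_smul] at this

theorem InE.sub (hu : InE p q u) (hv : InE p q v) : InE p q (u - v) := by
  rw [sub_eq_add_neg]; exact hu.add hv.opp

theorem InE.left : InE p q (be n F p) := ⟨1, 0, by simp⟩

theorem InE.right : InE p q (be n F q) := ⟨0, 1, by simp⟩

theorem InE.symm (h : InE p q v) : InE q p v := by
  obtain ⟨a, b, rfl⟩ := h
  exact ⟨b, a, add_comm _ _⟩

theorem Prp.zero : Prp p q (0 : Ix n → F) := ⟨rfl, rfl⟩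

theorem Prp.add (hu : Prp p q u) (hv : Prp p q v) : Prp p q (u + v) :=
  ⟨by rw [Pi.add_apply, hu.1, hv.1, add_zero], by rw [Pi.add_apply, hu.2, hv.2, add_zero]⟩

theorem Prp.smul (c : F) (hv : Prp p q v) : Prp p q (c • v) :=
  ⟨by rw [Pi.smul_apply, hv.1, smul_zero], by rw [Pi.smul_apply, hv.2, smul_zero]⟩

theorem Prp.symm (h : Prp p q v) : Prp q p v := ⟨h.2, h.1⟩

theorem InE.prp (h : Dj p q) (hv : InE p q v) : Prp p q v := by
  obtain ⟨a, b, rfl⟩ := hv
  have h1 : neg p ≠ q := fun e => h.2 (by rw [← e, neg_neg])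
  have h2 : neg q ≠ p := fun e => h.2 e.symm
  constructor <;> simp [be_apply, neg_ne, h1, h2]

theorem InL.inE (h : InL p v) : InE p q v := by
  obtain ⟨a, rfl⟩ := h
  exact ⟨a, 0, by simp⟩

theorem InL.zero : InL p (0 : Ix n → F) := ⟨0, by simp⟩

theorem InL.add (hu : InL p u) (hv : InL p v) : InL p (u + v) := by
  obtain ⟨a, rfl⟩ := hu
  obtain ⟨b, rfl⟩ := hv
  exact ⟨a + b, by rw [add_smul]⟩

theorem InL.smul (c : F) (hv : InL p v) : InL p (c • v) := by
  obtain ⟨a, rfl⟩ := hv
  exact ⟨c * a, by rw [smul_smul]⟩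

theorem InL.self : InL p (be n F p) := ⟨1, by simp⟩

theorem Prp.sub (hu : Prp p q u) (hv : Prp p q v) : Prp p q (u - v) :=
  ⟨by rw [Pi.sub_apply, hu.1, hv.1, sub_zero], by rw [Pi.sub_apply, hu.2, hv.2, sub_zero]⟩

end pred

/-- a submonoid of a finite group is a subgroup -/
def ofMon {H : Type*} [Group H] [Finite H] (M : Submonoid H) : Subgroup H where
  __ := M
  inv_mem' := by
    intro x hx
    rw [← pow_pred_eq_inv]
    exact pow_mem (S := M) hx _

section subgroups

variable [Finite F] (p q : Ix n)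

/-- `Q_s = O_2(C(X_s))` -/
def QS : Subgroup (Sy n F) := ofMon
  { carrier := {A | rho n F A (be n F p) = be n F p ∧ rho n F A (be n F q) = be n F q ∧
      ∀ v, Prp p q v → InE p q (rho n F A v - v)}
    one_mem' := ⟨rone _, rone _, fun v _ => by rw [rone, sub_self]; exact InE.zero⟩
    mul_mem' := by
      rintro A B ⟨a1, a2, a3⟩ ⟨b1, b2, b3⟩
      refine ⟨by rw [rmul, b1, a1], by rw [rmul, b2, a2], fun v hv => ?_⟩
      obtain ⟨a, b, e⟩ := b3 v hv
      have h1 : rho n F (A * B) v - v = (a • be n F p + b • be n F q) + (rho n F A v - v) := by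
        rw [sub_eq_iff_eq_add] at e
        rw [rmul, e, radd, radd, rsmul, rsmul, a1, a2]; abel
      rw [h1]
      exact InE.add ⟨a, b, rfl⟩ (a3 v hv) }

/-- `U_s = Z(Q_s)` -/
def US : Subgroup (Sy n F) := ofMon
  { carrier := {A | ∀ v, Prp p q v → rho n F A v = v}
    one_mem' := fun v _ => rone _
    mul_mem' := by
      intro A B hA hB v hv
      rw [rmul, hB v hv, hA v hv] }

/-- `U_l = Q_l = O_2(C(X_l))` -/
def UL : Subgroup (Sy n F) := ofMon
  { carrier := {A | rho n F A (be n F p) = be n F p ∧ ∀ v, v (neg p) = 0 → InL p (rho n F A v - v)}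
    one_mem' := ⟨rone _, fun v _ => by rw [rone, sub_self]; exact InL.zero⟩
    mul_mem' := by
      rintro A B ⟨a1, a3⟩ ⟨b1, b3⟩
      refine ⟨by rw [rmul, b1, a1], fun v hv => ?_⟩
      obtain ⟨a, e⟩ := b3 v hv
      have h1 : rho n F (A * B) v - v = a • be n F p + (rho n F A v - v) := by
        rw [sub_eq_iff_eq_add] at e
        rw [rmul, e, radd, rsmul, a1]; abel
      rw [h1]
      exact InL.add ⟨a, rfl⟩ (a3 v hv) }

/-- `Q_s U_l` -/
def QSL : Subgroup (Sy n F) := ofMon
  { carrier := {A | rho n F A (be n F p) = be n F p ∧ InL p (rho n F A (be n F q) - be n F q) ∧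
      ∀ v, Prp p q v → InE p q (rho n F A v - v)}
    one_mem' := ⟨rone _, by rw [rone, sub_self]; exact InL.zero,
      fun v _ => by rw [rone, sub_self]; exact InE.zero⟩
    mul_mem' := by
      rintro A B ⟨a1, ⟨c, a2⟩, a3⟩ ⟨b1, ⟨d, b2⟩, b3⟩
      rw [sub_eq_iff_eq_add] at a2 b2
      refine ⟨by rw [rmul, b1, a1], ⟨c + d, ?_⟩, fun v hv => ?_⟩
      · rw [rmul, b2, radd, rsmul, a1, a2, add_smul]; abel
      · obtain ⟨a, b, e⟩ := b3 v hv
        have h1 : rho n F (A * B) v - v = ((a + b * c) • be n F p + b • be n F q) + (rho n F A v - v) := by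
          rw [sub_eq_iff_eq_add] at e
          rw [rmul, e, radd, radd, rsmul, rsmul, a1, a2, add_smul, smul_add, smul_smul]; abel
        rw [h1]
        exact InE.add ⟨_, b, rfl⟩ (a3 v hv) }

variable {p q} {A : Sy n F}

theorem mem_QS : A ∈ QS p q ↔ rho n F A (be n F p) = be n F p ∧ rho n F A (be n F q) = be n F q ∧
    ∀ v, Prp p q v → InE p q (rho n F A v - v) := Iff.rfl

theorem mem_US : A ∈ US p q ↔ ∀ v, Prp p q v → rho n F A v = v := Iff.rfl

theorem mem_UL : A ∈ UL p ↔ rho n F A (be n F p) = be n F p ∧ ∀ v, v (neg p) = 0 → InL p (rho n F A v - v) :=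
  Iff.rfl

theorem mem_QSL : A ∈ QSL p q ↔ rho n F A (be n F p) = be n F p ∧
    InL p (rho n F A (be n F q) - be n F q) ∧ ∀ v, Prp p q v → InE p q (rho n F A v - v) := Iff.rfl

theorem QS_symm : (QS p q : Subgroup (Sy n F)) = QS q p := by
  ext A
  rw [mem_QS, mem_QS]
  constructor
  · exact fun h => ⟨h.2.1, h.1, fun v hv => (h.2.2 v hv.symm).symm⟩
  · exact fun h => ⟨h.2.1, h.1, fun v hv => (h.2.2 v hv.symm).symm⟩

theorem US_symm : (US p q : Subgroup (Sy n F)) = US q p := by
  ext A
  rw [mem_US, mem_US]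
  exact ⟨fun h v hv => h v hv.symm, fun h v hv => h v hv.symm⟩

theorem US_le_QS (hd : Dj p q) : (US p q : Subgroup (Sy n F)) ≤ QS p q := by
  intro A hA
  refine ⟨hA _ (InE.left.prp hd), hA _ (InE.right.prp hd), fun v hv => ?_⟩
  rw [hA v hv, sub_self]
  exact InE.zero

theorem QS_le_QSL : (QS p q : Subgroup (Sy n F)) ≤ QSL p q := by
  intro A hA
  refine ⟨hA.1, ?_, hA.2.2⟩
  rw [hA.2.1, sub_self]
  exact InL.zero

theorem UL_le_QSL (hd : Dj p q) : (UL p : Subgroup (Sy n F)) ≤ QSL p q := by
  intro A hA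
  exact ⟨hA.1, hA.2 _ (InE.right.prp hd).1, fun v hv => (hA.2 v hv.1).inE⟩

end subgroups

/-! ### the elements of `U_l` -/

section uu

/-- the element `v ↦ v + (v, e_p) b + ((v, b) + a (v, e_p)) e_p` of `U_l`, for `(b, e_p) = 0` -/
noncomputable def uu (p : Ix n) (b : Ix n → F) (a : F) : Sy n F :=
  transv (be n F p) (1 + a) * transv b 1 * transv (be n F p + b) 1

variable [CharP F 2] {p q : Ix n} {b b' v : Ix n → F} {a a' : F}

theorem rho_uu (hb : b (neg p) = 0) (a : F) (v : Ix n → F) :
    rho n F (uu p b a) v = v + v (neg p) • b + (sympForm n F v b + a * v (neg p)) • be n F p := by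
  have h0 : sympForm n F b (be n F p) = 0 := by rw [form_be, hb]
  have h0' : sympForm n F (be n F p) b = 0 := by rw [form_be', hb]
  have hp : be n F p (neg p) = (0 : F) := by rw [be_apply, if_neg (neg_ne p)]
  rw [uu, rmul, rmul, rho_transv, rho_transv, rho_transv]
  simp only [sympForm_add_right, sympForm_add_left, sympForm_smul_left, form_be, h0', sympForm_self,
    mul_zero, add_zero, one_mul]
  ext k
  simp only [Pi.add_apply, Pi.smul_apply, smul_eq_mul, hb, hp]
  linear_combination (((v (neg p) + sympForm n F v b)) * b k + (v (neg p)) * be n F p k -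
    v (neg p) * b k) * (two0 : (2 : F) = 0)

/-- `uu p b a` is determined by `b` modulo `e_p` -/
theorem uu_add_p (hb : b (neg p) = 0) (c a : F) : uu p (b + c • be n F p) a = uu p b a := by
  have hp : be n F p (neg p) = (0 : F) := by rw [be_apply, if_neg (neg_ne p)]
  refine rext fun v => ?_
  rw [rho_uu (by simp [hb, hp]), rho_uu hb, sympForm_add_right, sympForm_smul_right, form_be]
  ext k
  simp only [Pi.add_apply, Pi.smul_apply, smul_eq_mul]
  linear_combination (v (neg p) * c * be n F p k) * (two0 : (2 : F) = 0)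

theorem uu_mul (hb : b (neg p) = 0) (hb' : b' (neg p) = 0) (a a' : F) :
    uu p b a * uu p b' a' = uu p (b + b') (a + a' + sympForm n F b' b) := by
  have hp : be n F p (neg p) = (0 : F) := by rw [be_apply, if_neg (neg_ne p)]
  refine rext fun v => ?_
  rw [rmul, rho_uu hb', rho_uu hb, rho_uu (by simp [hb, hb'])]
  simp only [sympForm_add_left, sympForm_add_right, sympForm_smul_left, form_be', hb]
  ext k
  simp only [Pi.add_apply, Pi.smul_apply, smul_eq_mul, hb', hp]
  ring

theorem uu_zero (a : F) : uu p 0 a = sy p a := by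
  refine rext fun v => ?_
  rw [rho_uu rfl, rho_sy, sympForm_zero_right, smul_zero, add_zero, zero_add]

theorem uu_be {k : Ix n} (hd : Dj p k) (s : F) : uu p (s • be n F k) 0 = sx p k s := by
  have h1 : neg p ≠ k := fun e => hd.2 (by rw [← e, neg_neg])
  refine rext fun v => ?_
  rw [rho_uu (by simp [be_apply, h1]), rho_sx hd, sympForm_smul_right, form_be, zero_mul, add_zero, smul_smul,
    mul_comm (v (neg p))]
  abel

theorem uu_one : uu p 0 0 = (1 : Sy n F) := by rw [uu_zero, sy_zero]

theorem uu_inj (hb : b (neg p) = 0) (hb' : b' (neg p) = 0) (h : uu p b a = uu p b' a') : InL p (b - b') := by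
  have h1 := congrArg (fun A => rho n F A (be n F (neg p))) h
  simp only [rho_uu hb, rho_uu hb', form_be', be_apply, if_true, one_smul] at h1
  refine ⟨sympForm n F (be n F (neg p)) b' + a' - (sympForm n F (be n F (neg p)) b + a), ?_⟩
  rw [sub_smul, sub_eq_sub_iff_add_eq_add]
  have h2 : be n F (neg p) + (b + (sympForm n F (be n F (neg p)) b + a) • be n F p) =
      be n F (neg p) + (b' + (sympForm n F (be n F (neg p)) b' + a') • be n F p) := by
    simpa [add_assoc, form_be'] using h1
  rw [add_left_cancel h2, add_comm]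

theorem uu_inj' (hb : b (neg p) = 0) (h : uu p b a = uu p b a') : a = a' := by
  have h1 := congrArg (fun A => rho n F A (be n F (neg p)) p) h
  simpa [rho_uu hb, form_be', be_apply] using h1

/-- conjugation by a semi-isometry -/
theorem conj_uu {s : Equiv.Perm (Ix n → F)} {φ : F ≃+* F} (hs : SI s φ) {l : F} (hl : s (be n F p) = l • be n F p)
    (hb : b (neg p) = 0) (a : F) :
    rho n F (uu p (l • s b) (l ^ 2 * φ a)) = s * rho n F (uu p b a) * s⁻¹ := by
  have h0 : l * s b (neg p) = 0 := by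
    have h1 := hs.form b (be n F p)
    rw [form_be, hb, map_zero, hl, sympForm_smul_right, form_be] at h1
    exact h1
  rw [eq_mul_inv_iff_mul_eq]
  ext1 v
  rw [Equiv.Perm.mul_apply, Equiv.Perm.mul_apply, rho_uu (by rw [Pi.smul_apply, smul_eq_mul, h0]), rho_uu hb,
    hs.add, hs.add, hs.smul, hs.smul, hl, sympForm_smul_right]
  have h2 : φ (v (neg p)) = l * s v (neg p) := by
    have h1 := hs.form v (be n F p)
    rw [form_be, hl, sympForm_smul_right, form_be] at h1
    exact h1.symm
  have h3 : sympForm n F (s v) (s b) = φ (sympForm n F v b) := hs.form v b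
  rw [h3, map_add, map_mul, h2]
  ext k
  simp only [Pi.add_apply, Pi.smul_apply, smul_eq_mul]
  ring

theorem uu_q {k : Ix n} (hd : Dj p k) (s a : F) : uu p (s • be n F k) a = sx p k s * sy p a := by
  have h1 : neg p ≠ k := fun e => hd.2 (by rw [← e, neg_neg])
  rw [← uu_be hd, ← uu_zero, uu_mul (by simp [be_apply, h1]) rfl, add_zero, zero_add, fsymm, sympForm_zero_right,
    add_zero]

omit [CharP F 2] in
/-- a vector is a multiple of `e_{-p}` plus a vector of `e_p^⊥` -/
theorem split_p (p : Ix n) (v : Ix n → F) : (v - v (neg p) • be n F (neg p)) (neg p) = 0 := by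
  simp [be_apply]

omit [CharP F 2] in
/-- `A` is determined by `e_p^⊥` and `e_{-p}` -/
theorem rext_p {A B : Sy n F} (h0 : rho n F A (be n F (neg p)) = rho n F B (be n F (neg p)))
    (h : ∀ v, v (neg p) = 0 → rho n F A v = rho n F B v) : A = B := by
  refine rext fun v => ?_
  have e : v = (v - v (neg p) • be n F (neg p)) + v (neg p) • be n F (neg p) := by abel
  rw [e, radd, radd, rsmul, rsmul, h0, h _ (split_p p v)]

variable [Finite F]

theorem uu_mem_UL (hb : b (neg p) = 0) (a : F) : uu p b a ∈ UL p := by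
  have hp : be n F p (neg p) = (0 : F) := by rw [be_apply, if_neg (neg_ne p)]
  refine ⟨?_, fun v hv => ⟨sympForm n F v b + a * v (neg p), ?_⟩⟩
  · rw [rho_uu hb, hp, form_be', hb]; simp
  · rw [rho_uu hb, hv, zero_smul, add_zero, add_sub_cancel_left]

theorem exists_uu {A : Sy n F} (hA : A ∈ UL p) : ∃ b a, b (neg p) = 0 ∧ A = uu p b a := by
  have h0 : (rho n F A (be n F (neg p)) - be n F (neg p)) (neg p) = 0 := by
    have h1 := rform A (be n F (neg p)) (be n F p)
    rw [hA.1, form_be, form_be] at h1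
    rw [Pi.sub_apply, h1, sub_self]
  set w := rho n F A (be n F (neg p)) - be n F (neg p) with hw
  have hAw : rho n F A (be n F (neg p)) = be n F (neg p) + w := by rw [hw]; abel
  refine ⟨w, w p, h0, ?_⟩
  apply rext_p (p := p)
  · rw [rho_uu h0, hAw, form_be', neg_neg, be_apply, if_pos rfl, one_smul, mul_one, CharTwo.add_self_eq_zero,
      zero_smul, add_zero]
  · intro v hv
    obtain ⟨c, hc⟩ := hA.2 v hv
    rw [sub_eq_iff_eq_add] at hc
    rw [rho_uu h0, hv, zero_smul, add_zero, mul_zero, add_zero, hc, add_comm]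
    congr 2
    have h1 := rform A v (be n F (neg p))
    rw [hc, hAw, form_be, neg_neg, sympForm_add_right, sympForm_add_left, sympForm_add_left,
      sympForm_smul_left, sympForm_smul_left, form_be, form_be, form_be', h0, neg_neg, be_apply, if_pos rfl] at h1
    have h2 : c + sympForm n F v w = 0 := by
      linear_combination h1
    rw [CharTwo.add_eq_zero] at h2
    exact h2

theorem uu_mem_QS (hd : Dj p q) (hb : Prp p q b) (a : F) : uu p b a ∈ QS p q := by
  have hp : be n F p (neg p) = (0 : F) := by rw [be_apply, if_neg (neg_ne p)]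
  have hq : be n F q (neg p) = (0 : F) := (InE.right.prp hd).1
  refine ⟨(uu_mem_UL hb.1 a).1, ?_, fun v hv => ((uu_mem_UL hb.1 a).2 v hv.1).inE⟩
  rw [rho_uu hb.1, hq, form_be', hb.2]; simp

/-- the elements of `J = U_l ∩ Q_s` -/
theorem exists_J (hd : Dj p q) {A : Sy n F} (hA : A ∈ UL p) (hA' : A ∈ QS p q) :
    ∃ b a, Prp p q b ∧ A = uu p b a := by
  obtain ⟨b, a, hb, rfl⟩ := exists_uu hA
  refine ⟨b, a, ⟨hb, ?_⟩, rfl⟩
  have hq : be n F q (neg p) = (0 : F) := (InE.right.prp hd).1
  have h1 := hA'.2.1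
  rw [rho_uu hb, hq, form_be', zero_smul, mul_zero, add_zero, add_zero, add_eq_left, smul_eq_zero] at h1
  exact h1.resolve_right (be_ne p)

/-- `Q_s = J J'` -/
theorem exists_JJ (hd : Dj p q) {A : Sy n F} (hA : A ∈ QS p q) :
    ∃ b a b' a', Prp p q b ∧ Prp p q b' ∧ A = uu p b a * uu q b' a' := by
  have h0 : Prp p q (rho n F A (be n F (neg p)) - be n F (neg p)) := by
    constructor
    · have h1 := rform A (be n F (neg p)) (be n F p)
      rw [hA.1, form_be, form_be] at h1
      rw [Pi.sub_apply, h1, sub_self]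
    · have h1 := rform A (be n F (neg p)) (be n F q)
      rw [hA.2.1, form_be, form_be] at h1
      rw [Pi.sub_apply, h1, sub_self]
  set w := rho n F A (be n F (neg p)) - be n F (neg p) with hw
  have hAw : rho n F A (be n F (neg p)) = be n F (neg p) + w := by rw [hw]; abel
  have h1 : uu p w (w p) ∈ QS p q := uu_mem_QS hd h0 _
  set B := (uu p w (w p))⁻¹ * A with hB
  have hBQ : B ∈ QS p q := mul_mem (inv_mem h1) hA
  have hBp : rho n F B (be n F (neg p)) = be n F (neg p) := by
    have h2 : rho n F (uu p w (w p)) (be n F (neg p)) = rho n F A (be n F (neg p)) := by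
      rw [rho_uu h0.1, hAw, form_be', neg_neg, be_apply, if_pos rfl, one_smul, mul_one, CharTwo.add_self_eq_zero,
        zero_smul, add_zero]
    rw [hB, rmul, ← h2, rinv_self]
  have hBU : B ∈ UL q := by
    refine ⟨hBQ.2.1, fun v hv => ?_⟩
    set v' := v - v (neg p) • be n F (neg p) with hv'
    have e : v = v' + v (neg p) • be n F (neg p) := by rw [hv']; abel
    have hP : Prp p q v' := by
      refine ⟨split_p p v, ?_⟩
      rw [hv', Pi.sub_apply, hv, Pi.smul_apply, be_apply, if_neg, smul_zero, sub_zero]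
      exact fun e => hd.1 (neg_inj.1 e).symm
    obtain ⟨c, d, hc⟩ := hBQ.2.2 v' hP
    refine ⟨d, ?_⟩
    have h3 : rho n F B v - v = rho n F B v' - v' := by
      conv_lhs => rw [e, radd, rsmul, hBp]
      abel
    rw [h3, hc]
    have h4 := rform B v' (be n F (neg p))
    rw [sub_eq_iff_eq_add] at hc
    rw [hBp, hc, form_be, form_be, neg_neg] at h4
    have h5 : be n F q p = (0 : F) := by rw [be_apply, if_neg hd.1]
    simp only [Pi.add_apply, Pi.smul_apply, smul_eq_mul, h5, be_apply, if_true, mul_one, mul_zero, add_zero,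
      add_eq_right] at h4
    rw [h4, zero_smul, zero_add]
  obtain ⟨b', a', hb', e⟩ := exists_J (q := p) hd.symm hBU (by rw [QS_symm]; exact hBQ)
  exact ⟨w, w p, b', a', h0, hb'.symm, by rw [← e, hB]; group⟩

theorem sx_mem_US (hd : Dj p q) (c : F) : sx p q c ∈ US p q := by
  intro v hv
  rw [rho_sx hd, hv.1, hv.2]; simp

theorem sy_mem_US (a : F) : sy p a ∈ US p q := by
  intro v hv
  rw [rho_sy, hv.1]; simp

theorem sy_mem_US' (a : F) : sy q a ∈ US p q := by
  intro v hv
  rw [rho_sy, hv.2]; simp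

/-- the elements of `U_s` -/
theorem exists_US (hd : Dj p q) {A : Sy n F} (hA : A ∈ US p q) : ∃ a b c, A = sx p q c * sy p a * sy q b := by
  obtain ⟨b, a, b', a', hb, hb', e⟩ := exists_JJ hd (US_le_QS hd hA)
  have h1 : ∀ v, Prp p q v → sympForm n F v b = 0 ∧ sympForm n F v b' = 0 := by
    intro v hv
    have h2 := hA v hv
    rw [e, rmul, rho_uu hb'.2, hv.2, zero_smul, mul_zero, add_zero, add_zero, radd, rsmul,
      (uu_mem_QS hd hb a).2.1, rho_uu hb.1, hv.1, zero_smul, mul_zero, add_zero, add_zero] at h2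
    have h3 : sympForm n F v b • be n F p + sympForm n F v b' • be n F q = 0 := by
      have h4 : v + (sympForm n F v b • be n F p + sympForm n F v b' • be n F q) = v + 0 := by
        rw [add_zero, ← add_assoc]; exact h2
      exact add_left_cancel h4
    have h4 := congrFun h3 p
    have h5 := congrFun h3 q
    have h6 : be n F q p = (0 : F) := by rw [be_apply, if_neg hd.1]
    have h7 : be n F p q = (0 : F) := by rw [be_apply, if_neg hd.1.symm]
    simp only [Pi.add_apply, Pi.smul_apply, smul_eq_mul, h6, h7, be_apply, if_true, Pi.zero_apply] at h4 h5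
    constructor
    · linear_combination h4
    · linear_combination h5
  have key : ∀ w : Ix n → F, (∀ v, Prp p q v → sympForm n F v w = 0) → w = w p • be n F p + w q • be n F q := by
    intro w hw
    ext k
    have g1 : p ≠ q := hd.1
    by_cases k1 : k = p
    · subst k1; simp [be_apply, g1]
    by_cases k2 : k = q
    · subst k2; simp [be_apply, g1.symm]
    have h2 : Prp p q (be n F (neg k)) := by
      constructor
      · rw [be_apply, if_neg fun e => k1 (neg_inj.1 e).symm]
      · rw [be_apply, if_neg fun e => k2 (neg_inj.1 e).symm]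
    have h3 := hw _ h2
    rw [form_be', neg_neg] at h3
    simp [be_apply, k1, k2, h3]
  have e1 := key b fun v hv => (h1 v hv).1
  have e2 := key b' fun v hv => (h1 v hv).2
  have hz : (b q • be n F q) (neg p) = (0 : F) := ((InE.right.prp hd).smul _).1
  have hz' : (b' p • be n F p) (neg q) = (0 : F) := ((InE.left.prp hd).smul _).2
  have f1 : uu p b a = uu p (b q • be n F q) a := by
    conv_lhs => rw [e1, add_comm, uu_add_p hz]
  have f2 : uu q b' a' = uu q (b' p • be n F p) a' := by
    conv_lhs => rw [e2, uu_add_p hz']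
  refine ⟨a, a', b q + b' p, ?_⟩
  rw [e, f1, f2, uu_q hd, uu_q hd.symm, sx_symm q p, sx_add]
  have hc : Commute (sy p a) (sx p q (b' p)) := sy_sx_comm (ne_neg p) (fun e => hd.2 (by rw [e, neg_neg])) _ _
  calc sx p q (b q) * sy p a * (sx p q (b' p) * sy q a')
      = sx p q (b q) * (sy p a * sx p q (b' p)) * sy q a' := by group
    _ = sx p q (b q) * (sx p q (b' p) * sy p a) * sy q a' := by rw [hc.eq]
    _ = _ := by group

end uu

end Cfsg.Agent.Omega.All.SpN
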