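import Cfsg.Agent.OddHalf.SpN.OutTri

/-!
# `Sp_2n(q)`, `q` even: the groups `Q_s`, `U_l` of a point `p` and a totally isotropic line `⟨p, q⟩` (helper165)

Coordinate-free: `Hyp p q w1 w2` (`p ⊥ q`, `w1`, `w2` dual to `p`, `q`).

* `ul p b c` (`b ⊥ p`) : `v ↦ v + (v,p) b + ((v,b) + c (v,p)) p`, the elements of `U_l`;
* `IsUL p A` : `A p = p`, `A` trivial on `p^⊥ / p`;
* `IsQ p q A` : `A p = p`, `A q ∈ q + ⟨p⟩`, `A` trivial on `⟨p, q⟩^⊥ / ⟨p, q⟩` (the elements of `Q_s U_l`).
-/

set_option autoImplicit false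
set_option linter.unusedSectionVars false

namespace Cfsg.Agent.Omega.All.SpN.Off

open Cfsg Cfsg.Agent.ClassicalGeometry.SympBasic Cfsg.Agent.ClassicalGeometry.SympAutSemi
open Cfsg.Agent.OddHalf.SpN Cfsg.Agent.OddHalf.SpN.Out
open scoped Matrix commutatorElement

variable {n : ℕ} {F : Type*} [Field F]

local notation "B" => sympForm n F

section basic

theorem radd (A : Sy n F) (u v : Ix n → F) : rho n F A (u + v) = rho n F A u + rho n F A v := (SI.of_rho A).add u v

theorem rsub (A : Sy n F) (u v : Ix n → F) : rho n F A (u - v) = rho n F A u - rho n F A v := (SI.of_rho A).sub u v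

theorem rsmul (A : Sy n F) (a : F) (v : Ix n → F) : rho n F A (a • v) = a • rho n F A v := (SI.of_rho A).smul a v

theorem rform (A : Sy n F) (u v : Ix n → F) : B (rho n F A u) (rho n F A v) = B u v := sympForm_rho A u v

theorem rmul (A C : Sy n F) (v : Ix n → F) : rho n F (A * C) v = rho n F A (rho n F C v) := by
  rw [map_mul]; rfl

theorem rinv (A : Sy n F) (v : Ix n → F) : rho n F A (rho n F A⁻¹ v) = v := by
  rw [← rmul, mul_inv_cancel, map_one]; rfl

theorem rinv' (A : Sy n F) (v : Ix n → F) : rho n F A⁻¹ (rho n F A v) = v := by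
  rw [← rmul, inv_mul_cancel, map_one]; rfl

theorem rext {A C : Sy n F} (h : ∀ v, rho n F A v = rho n F C v) : A = C := rho_injective (Equiv.ext h)

theorem rone (v : Ix n → F) : rho n F 1 v = v := by rw [map_one]; rfl

end basic

section chartwo

variable [CharP F 2]

theorem fs (u v : Ix n → F) : B u v = B v u := by rw [sympForm_swap, CharTwo.neg_eq]

/-- the elements of `U_l` -/
def ul (p b : Ix n → F) (c : F) : Sy n F := transv p c * (transv p 1 * (transv b 1 * transv (p + b) 1))

theorem rho_ul {p b : Ix n → F} (h : B b p = 0) (c : F) (v : Ix n → F) :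
    rho n F (ul p b c) v = v + B v p • b + (B v b + c * B v p) • p := by
  have h' : B p b = 0 := by rw [fs, h]
  rw [ul, rmul, rmul, rmul]
  simp only [rho_transv, sympForm_add_left, sympForm_add_right, sympForm_smul_left, sympForm_self, h, h']
  ext k
  simp only [Pi.add_apply, Pi.smul_apply, smul_eq_mul]
  linear_combination (B v p * p k + B v b * b k) * (two0 : (2 : F) = 0)

/-- `A p = p` and `A` is trivial on `p^⊥ / p` -/
def IsUL (p : Ix n → F) (A : Sy n F) : Prop :=
  rho n F A p = p ∧ ∀ v, B v p = 0 → ∃ a : F, rho n F A v - v = a • p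

/-- the elements of `Q_s U_l` -/
def IsQ (p q : Ix n → F) (A : Sy n F) : Prop :=
  rho n F A p = p ∧ (∃ a : F, rho n F A q - q = a • p) ∧
    ∀ v, B v p = 0 → B v q = 0 → ∃ a b : F, rho n F A v - v = a • p + b • q

/-- the configuration -/
structure Hyp (p q w1 w2 : Ix n → F) : Prop where
  pq : B p q = 0
  pw1 : B p w1 = 1
  qw1 : B q w1 = 0
  pw2 : B p w2 = 0
  qw2 : B q w2 = 1

theorem conj_ul {p b : Ix n → F} (h : B b p = 0) (c : F) {A : Sy n F} (hA : rho n F A p = p) :
    A * ul p b c * A⁻¹ = ul p (rho n F A b) c := by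
  have h1 : B (rho n F A b) p = 0 := by
    conv_lhs => rw [← hA]
    rw [rform, h]
  apply rext
  intro v
  rw [rmul, rmul, rho_ul h, rho_ul h1, radd, radd, rsmul, rsmul, rinv, hA]
  have e : ∀ x, B (rho n F A⁻¹ v) x = B v (rho n F A x) := fun x => by
    rw [← rform A, rinv]
  rw [e, e, hA]

theorem ul_add {p b : Ix n → F} (h : B b p = 0) (l c : F) : ul p (b + l • p) c = ul p b c := by
  have h1 : B (b + l • p) p = 0 := by rw [sympForm_add_left, sympForm_smul_left, h, sympForm_self, mul_zero, add_zero]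
  apply rext
  intro v
  rw [rho_ul h, rho_ul h1, sympForm_add_right, sympForm_smul_right]
  ext k
  simp only [Pi.add_apply, Pi.smul_apply, smul_eq_mul]
  linear_combination (B v p * l * p k) * (two0 : (2 : F) = 0)

theorem ul_mul {p b b' : Ix n → F} (h : B b p = 0) (h' : B b' p = 0) (c c' : F) :
    ul p b c * ul p b' c' = ul p (b + b') (c + c' + B b b') := by
  have h1 : B (b + b') p = 0 := by rw [sympForm_add_left, h, h', add_zero]
  apply rext
  intro v
  rw [rmul, rho_ul h, rho_ul h', rho_ul h1]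
  simp only [sympForm_add_left, sympForm_add_right, sympForm_smul_left, sympForm_self, h, h', fs p b, fs b' b]
  ext k
  simp only [Pi.add_apply, Pi.smul_apply, smul_eq_mul]
  ring

/-- the vector of an element of `U_l` -/
def bb (w1 : Ix n → F) (A : Sy n F) : Ix n → F := rho n F A w1 - w1

variable {p q w1 w2 : Ix n → F}

theorem bb_perp {A : Sy n F} (hA : rho n F A p = p) : B (bb w1 A) p = 0 := by
  have h : B (rho n F A w1) p = B w1 p := by
    conv_lhs => rw [← hA]
    exact rform A w1 p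
  rw [bb, sympForm_sub_left, h, sub_self]

/-- the elements of `U_l` are the `ul p b c` -/
theorem IsUL.eq (H : Hyp p q w1 w2) {A : Sy n F} (hA : IsUL p A) : A = ul p (bb w1 A) (B w1 (bb w1 A)) := by
  obtain ⟨h1, h2⟩ := hA
  have hb := bb_perp (w1 := w1) h1
  -- on `p^⊥`
  have h3 : ∀ v, B v p = 0 → rho n F A v = v + B v (bb w1 A) • p := by
    intro v hv
    obtain ⟨a, ha⟩ := h2 v hv
    have h4 : rho n F A v = v + a • p := by rw [← ha]; abel
    have h5 : B (rho n F A v) (rho n F A w1) = B v w1 := rform A v w1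
    have h6 : rho n F A w1 = w1 + bb w1 A := by rw [bb]; abel
    rw [h4, h6, sympForm_add_left, sympForm_smul_left, sympForm_add_right, sympForm_add_right, H.pw1,
      fs p (bb w1 A), hb] at h5
    have h7 : a = B v (bb w1 A) := by
      linear_combination h5 - (B v (bb w1 A)) * (two0 : (2 : F) = 0)
    rw [h4, h7]
  apply rext
  intro v
  rw [rho_ul hb]
  have hpw : B w1 p = 1 := by rw [fs, H.pw1]
  have h4 : B (v - B v p • w1) p = 0 := by
    rw [sympForm_sub_left, sympForm_smul_left, hpw, mul_one, sub_self]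
  have h5 : v = (v - B v p • w1) + B v p • w1 := by abel
  have h6 : rho n F A w1 = w1 + bb w1 A := by rw [bb]; abel
  calc rho n F A v = rho n F A ((v - B v p • w1) + B v p • w1) := by rw [← h5]
    _ = (v - B v p • w1) + B (v - B v p • w1) (bb w1 A) • p + B v p • (w1 + bb w1 A) := by
      rw [radd, rsmul, h3 _ h4, h6]
    _ = _ := by
      rw [sympForm_sub_left, sympForm_smul_left]
      ext k
      simp only [Pi.add_apply, Pi.sub_apply, Pi.smul_apply, smul_eq_mul]
      linear_combination (- (B v p * B w1 (bb w1 A) * p k)) * (two0 : (2 : F) = 0)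

theorem isUL_ul {b : Ix n → F} (h : B b p = 0) (c : F) : IsUL p (ul p b c) := by
  refine ⟨?_, fun v hv => ⟨B v b, ?_⟩⟩
  · rw [rho_ul h, sympForm_self, fs p b, h, mul_zero, add_zero, zero_smul, zero_smul, add_zero, add_zero]
  · rw [rho_ul h, hv, zero_smul, mul_zero, add_zero, add_zero, add_sub_cancel_left]

theorem bb_ul (H : Hyp p q w1 w2) {b : Ix n → F} (h : B b p = 0) (c : F) :
    bb w1 (ul p b c) = b + (B w1 b + c) • p := by
  rw [bb, rho_ul h, fs w1 p, H.pw1, one_smul, mul_one]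
  abel

theorem ul_inj (H : Hyp p q w1 w2) {b b' : Ix n → F} {c c' : F} (h : B b p = 0) (h' : B b' p = 0)
    (e : ul p b c = ul p b' c') : ∃ a : F, b' = b + a • p := by
  have h1 := congrArg (bb w1) e
  rw [bb_ul H h, bb_ul H h'] at h1
  refine ⟨(B w1 b + c) - (B w1 b' + c'), ?_⟩
  rw [sub_smul]
  rw [← sub_eq_zero] at h1 ⊢
  rw [← neg_eq_zero, ← h1]
  abel

/-- `U_l` is abelian and of exponent two -/
theorem ul_comm {b b' : Ix n → F} (h : B b p = 0) (h' : B b' p = 0) (c c' : F) :
    ul p b c * ul p b' c' = ul p b' c' * ul p b c := by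
  rw [ul_mul h h', ul_mul h' h, add_comm b b', fs b b', add_comm c c']

theorem ul_zero : ul p (0 : Ix n → F) 0 = 1 := by
  apply rext
  intro v
  rw [rho_ul (sympForm_zero_left p), rone, smul_zero, sympForm_zero_right, zero_mul, add_zero, add_zero, zero_smul,
    add_zero]

theorem ul_sq {b : Ix n → F} (h : B b p = 0) (c : F) : ul p b c * ul p b c = 1 := by
  have e1 : b + b = 0 := by ext k; exact CharTwo.add_self_eq_zero _
  rw [ul_mul h h, e1, CharTwo.add_self_eq_zero, sympForm_self, add_zero, ul_zero]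

theorem IsUL.comm (H : Hyp p q w1 w2) {A C : Sy n F} (hA : IsUL p A) (hC : IsUL p C) : A * C = C * A := by
  rw [hA.eq H, hC.eq H]
  exact ul_comm (bb_perp hA.1) (bb_perp hC.1) _ _

theorem IsUL.sq (H : Hyp p q w1 w2) {A : Sy n F} (hA : IsUL p A) : A * A = 1 := by
  rw [hA.eq H]
  exact ul_sq (bb_perp hA.1) _

/-- `A` acts on `⟨p⟩` trivially: `A` and `U_l` -/
theorem comm_ul_iff (H : Hyp p q w1 w2) {A : Sy n F} (hA : rho n F A p = p) {b : Ix n → F} (h : B b p = 0) (c : F) :
    A * ul p b c = ul p b c * A ↔ ∃ a : F, rho n F A b - b = a • p := by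
  have h1 : B (rho n F A b) p = 0 := by
    conv_lhs => rw [← hA]
    rw [rform, h]
  have e := conj_ul h c hA
  constructor
  · intro h2
    rw [h2, mul_inv_cancel_right] at e
    obtain ⟨a, ha⟩ := ul_inj H h h1 e
    exact ⟨a, by rw [ha]; abel⟩
  · rintro ⟨a, ha⟩
    have h3 : rho n F A b = b + a • p := by rw [← ha]; abel
    rw [h3, ul_add h] at e
    exact mul_inv_eq_iff_eq_mul.1 e

/-- the elements of `C(U_l)` fixing `p` -/
theorem IsUL.of_comm (H : Hyp p q w1 w2) {A : Sy n F} (hA : rho n F A p = p)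
    (h : ∀ b, B b p = 0 → A * ul p b 0 = ul p b 0 * A) : IsUL p A :=
  ⟨hA, fun b hb => (comm_ul_iff H hA hb 0).1 (h b hb)⟩

/-- a vector orthogonal to `⟨p, q⟩^⊥` -/
theorem inE_of_perp (H : Hyp p q w1 w2) {y : Ix n → F} (h : ∀ b, B b p = 0 → B b q = 0 → B b y = 0) :
    y = B y w1 • p + B y w2 • q := by
  rw [← sub_eq_zero]
  apply eq_zero_of_forall_sympForm_left
  intro x
  have h1 : B (x - B x p • w1 - B x q • w2) p = 0 := by
    rw [sympForm_sub_left, sympForm_sub_left, sympForm_smul_left, sympForm_smul_left, fs w1 p, fs w2 p, H.pw1, H.pw2]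
    ring
  have h2 : B (x - B x p • w1 - B x q • w2) q = 0 := by
    rw [sympForm_sub_left, sympForm_sub_left, sympForm_smul_left, sympForm_smul_left, fs w1 q, fs w2 q, H.qw1, H.qw2]
    ring
  have h3 := h _ h1 h2
  rw [sympForm_sub_left, sympForm_sub_left, sympForm_smul_left, sympForm_smul_left] at h3
  rw [sympForm_sub_right, sympForm_add_right, sympForm_smul_right, sympForm_smul_right, fs y w1, fs y w2]
  linear_combination h3

/-- the part of a vector of `p^⊥` in `⟨p, q⟩^⊥` -/
theorem perp_split (H : Hyp p q w1 w2) {x : Ix n → F} (hx : B x p = 0) :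
    B (x - B x q • w2) p = 0 ∧ B (x - B x q • w2) q = 0 := by
  constructor
  · rw [sympForm_sub_left, sympForm_smul_left, hx, fs w2 p, H.pw2]; ring
  · rw [sympForm_sub_left, sympForm_smul_left, fs w2 q, H.qw2]; ring

namespace IsQ

variable {A C : Sy n F}

theorem form_p (hA : rho n F A p = p) (x : Ix n → F) : B (rho n F A x) p = B x p := by
  conv_lhs => rw [← hA]
  exact rform A x p

theorem form_q (hA : IsQ p q A) {x : Ix n → F} (hx : B x p = 0) : B (rho n F A x) q = B x q := by
  obtain ⟨a, ha⟩ := hA.2.1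
  have h1 : q = rho n F A (q - a • p) := by
    rw [rsub, rsmul, hA.1, ← ha]; abel
  conv_lhs => rw [h1]
  rw [rform, sympForm_sub_right, sympForm_smul_right, hx]; ring

/-- `A x - x ∈ ⟨p, q⟩^⊥` for `x ∈ p^⊥` -/
theorem sub_perp (hA : IsQ p q A) {x : Ix n → F} (hx : B x p = 0) :
    B (rho n F A x - x) p = 0 ∧ B (rho n F A x - x) q = 0 := by
  constructor
  · rw [sympForm_sub_left, form_p hA.1, sub_self]
  · rw [sympForm_sub_left, hA.form_q hx, sub_self]

/-- the `q`-coordinate of `A y - y`, `y ∈ ⟨p, q⟩^⊥` -/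
theorem coord (H : Hyp p q w1 w2) (hA : IsQ p q A) {y : Ix n → F} (h1 : B y p = 0) (h2 : B y q = 0) :
    B (rho n F A y - y) w2 = B y (rho n F A w2 - w2) := by
  obtain ⟨a, b, hab⟩ := hA.2.2 y h1 h2
  have hw : B (w2 : Ix n → F) p = 0 := by rw [fs, H.pw2]
  obtain ⟨h3, h4⟩ := hA.sub_perp hw
  have h5 := rform A y w2
  have e1 : rho n F A y = y + (rho n F A y - y) := by abel
  have e2 : rho n F A w2 = w2 + (rho n F A w2 - w2) := by abel
  rw [e1, e2, sympForm_add_left, sympForm_add_right, sympForm_add_right] at h5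
  have h6 : B (rho n F A y - y) (rho n F A w2 - w2) = 0 := by
    rw [hab, sympForm_add_left, sympForm_smul_left, sympForm_smul_left, fs p, fs q, h3, h4]; ring
  rw [h6] at h5
  linear_combination h5 - (B y (rho n F A w2 - w2)) * (two0 : (2 : F) = 0)

/-- **fix**: an element of `Q_s U_l` centralising an element of `U_l` outside `p^⊥ ∩ q^⊥` centralises `U_l` -/
theorem isUL_of_fix (hA : IsQ p q A) {b : Ix n → F} (hb : B b p = 0) (hbq : B b q ≠ 0)
    (h : ∃ a : F, rho n F A b - b = a • p) : IsUL p A := by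
  obtain ⟨l, hl⟩ := h
  have hAb : rho n F A b = b + l • p := by rw [← hl]; abel
  -- on `⟨p, q⟩^⊥`
  have key : ∀ x, B x p = 0 → B x q = 0 → ∃ a : F, rho n F A x - x = a • p := by
    intro x h1 h2
    obtain ⟨a, c, hac⟩ := hA.2.2 x h1 h2
    have h3 := rform A x b
    have h4 : B (rho n F A x) p = 0 := by rw [form_p hA.1, h1]
    rw [hAb, sympForm_add_right, sympForm_smul_right, h4, mul_zero, add_zero] at h3
    have h5 : B (rho n F A x - x) b = 0 := by rw [sympForm_sub_left, h3, sub_self]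
    rw [hac, sympForm_add_left, sympForm_smul_left, sympForm_smul_left, fs p b, hb, fs q b, mul_zero, zero_add] at h5
    have h6 : c = 0 := (mul_eq_zero.1 h5).resolve_right hbq
    exact ⟨a, by rw [hac, h6, zero_smul, add_zero]⟩
  refine ⟨hA.1, fun v hv => ?_⟩
  have h1 : B (v - (B v q / B b q) • b) p = 0 := by
    rw [sympForm_sub_left, sympForm_smul_left, hv, hb]; ring
  have h2 : B (v - (B v q / B b q) • b) q = 0 := by
    rw [sympForm_sub_left, sympForm_smul_left, div_mul_cancel₀ _ hbq, sub_self]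
  obtain ⟨a, ha⟩ := key _ h1 h2
  refine ⟨a + (B v q / B b q) * l, ?_⟩
  rw [rsub, rsmul, hAb] at ha
  have e : rho n F A v - v = (rho n F A v - (B v q / B b q) • (b + l • p) - (v - (B v q / B b q) • b)) +
      ((B v q / B b q) * l) • p := by
    rw [smul_add, smul_smul]; abel
  rw [e, ha, add_smul]

/-- the commutators of two elements of `Q_s U_l` -/
theorem comm_isUL (H : Hyp p q w1 w2) (hA : IsQ p q A) (hC : IsQ p q C) :
    IsUL p (A * C * A⁻¹ * C⁻¹) ∧ rho n F (A * C * A⁻¹ * C⁻¹) q = q := by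
  have hw : B (w2 : Ix n → F) p = 0 := by rw [fs, H.pw2]
  -- the commutator on `x`
  have hk : ∀ x, rho n F (A * C * A⁻¹ * C⁻¹) (rho n F C (rho n F A x)) = rho n F A (rho n F C x) := by
    intro x
    rw [← rmul, ← rmul, ← rmul]
    congr 2
    group
  have hCA : rho n F C (rho n F A p) = p := by rw [hA.1, hC.1]
  have hAC : rho n F A (rho n F C p) = p := by rw [hC.1, hA.1]
  refine ⟨⟨?_, fun v hv => ?_⟩, ?_⟩
  · have := hk p
    rwa [hCA, hAC] at this
  · -- `v = C A x`
    set x := rho n F A⁻¹ (rho n F C⁻¹ v) with hx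
    have hv' : v = rho n F C (rho n F A x) := by rw [hx, rinv, rinv]
    have hxp : B x p = 0 := by
      have : B v p = B x p := by
        rw [hv', form_p hC.1, form_p hA.1]
      rw [← this, hv]
    have h1 := hA.sub_perp hxp
    have h2 := hC.sub_perp hxp
    obtain ⟨a, b, hab⟩ := hA.2.2 _ h2.1 h2.2
    obtain ⟨a', b', hab'⟩ := hC.2.2 _ h1.1 h1.2
    -- `A C x - C A x`
    have hd : rho n F A (rho n F C x) - rho n F C (rho n F A x) = (a - a') • p + (b - b') • q := by
      have e1 : rho n F A (rho n F C x) = rho n F A (rho n F C x - x) + rho n F A x := by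
        rw [← radd]; congr 1; abel
      have e2 : rho n F C (rho n F A x) = rho n F C (rho n F A x - x) + rho n F C x := by
        rw [← radd]; congr 1; abel
      have e3 : rho n F A (rho n F C x) - rho n F C (rho n F A x) =
          (rho n F A (rho n F C x - x) - (rho n F C x - x)) - (rho n F C (rho n F A x - x) - (rho n F A x - x)) := by
        rw [e1, e2]; abel
      rw [e3, hab, hab', sub_smul, sub_smul]
      abel
    -- the coordinates
    have k1 : b = B (rho n F C x - x) (rho n F A w2 - w2) := by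
      rw [← hA.coord H h2.1 h2.2, hab, sympForm_add_left, sympForm_smul_left, sympForm_smul_left, H.pw2, H.qw2]
      ring
    have k2 : b' = B (rho n F A x - x) (rho n F C w2 - w2) := by
      rw [← hC.coord H h1.1 h1.2, hab', sympForm_add_left, sympForm_smul_left, sympForm_smul_left, H.pw2, H.qw2]
      ring
    obtain ⟨s1, s2⟩ := perp_split H hxp
    have key : ∀ E D : Sy n F, IsQ p q E → IsQ p q D →
        B (rho n F E x - x) (rho n F D w2 - w2) = B x q * B (rho n F E w2 - w2) (rho n F D w2 - w2) := by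
      intro E D hE hD
      obtain ⟨c, d, hcd⟩ := hE.2.2 _ s1 s2
      obtain ⟨g1, g2⟩ := hD.sub_perp hw
      have e : rho n F E x - x = (rho n F E (x - B x q • w2) - (x - B x q • w2)) + B x q • (rho n F E w2 - w2) := by
        rw [rsub, rsmul, smul_sub]; abel
      rw [e, sympForm_add_left, sympForm_smul_left, hcd, sympForm_add_left, sympForm_smul_left, sympForm_smul_left,
        fs p, fs q, g1, g2]
      ring
    have k3 : b = b' := by
      rw [k1, k2, key C A hC hA, key A C hA hC, fs (rho n F C w2 - w2)]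
    refine ⟨a - a', ?_⟩
    have e : rho n F (A * C * A⁻¹ * C⁻¹) v = rho n F A (rho n F C x) := by
      conv_lhs => rw [hv']
      exact hk x
    rw [e]
    conv_lhs => rw [hv']
    rw [hd, k3, sub_self, zero_smul, add_zero]
  · obtain ⟨a, ha⟩ := hA.2.1
    obtain ⟨c, hc⟩ := hC.2.1
    have e1 : rho n F A q = q + a • p := by rw [← ha]; abel
    have e2 : rho n F C q = q + c • p := by rw [← hc]; abel
    have e3 : rho n F C (rho n F A q) = q + (a + c) • p := by
      rw [e1, radd, rsmul, hC.1, e2, add_smul]; abel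
    have e4 : rho n F A (rho n F C q) = q + (a + c) • p := by
      rw [e2, radd, rsmul, hA.1, e1, add_smul]; abel
    have e5 := hk q
    rw [e3, e4, radd, rsmul] at e5
    have e6 : rho n F (A * C * A⁻¹ * C⁻¹) p = p := by
      have := hk p
      rwa [hCA, hAC] at this
    rw [e6] at e5
    exact add_right_cancel e5

/-- **comm**: `[p^⊥ ∩ q^⊥, Q_s U_l] ≤ X_s` -/
theorem comm_mem (H : Hyp p q w1 w2) (hA : IsUL p A) (hAq : rho n F A q = q) (hC : IsQ p q C) :
    ∃ t : F, A * C * A⁻¹ * C⁻¹ = ul p (t • q) 0 := by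
  have hb := bb_perp (w1 := w1) hA.1
  have hA' := hA.eq H
  have hp0 : B p w1 ≠ 0 := by rw [H.pw1]; exact one_ne_zero
  have hbq : B (bb w1 A) q = 0 := by
    have h1 := hAq
    rw [hA', rho_ul hb, fs q p, H.pq, zero_smul, add_zero, mul_zero, add_zero, add_eq_left] at h1
    have h2 := congrArg (fun y => B y w1) h1
    simp only [sympForm_smul_left, sympForm_zero_left, H.pw1, mul_one] at h2
    rw [fs]; exact h2
  obtain ⟨a, b, hab⟩ := hC.2.2 _ hb hbq
  have h1 : A * C * A⁻¹ * C⁻¹ = A * (C * A * C⁻¹)⁻¹ := by group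
  have hCb : B (rho n F C (bb w1 A)) p = 0 := by rw [form_p hC.1, hb]
  have h2 : C * A * C⁻¹ = ul p (rho n F C (bb w1 A)) (B w1 (bb w1 A)) := by
    conv_lhs => rw [hA']
    exact conj_ul hb _ hC.1
  have h3 : (C * A * C⁻¹)⁻¹ = C * A * C⁻¹ := by
    rw [h2]
    exact inv_eq_of_mul_eq_one_right (ul_sq hCb _)
  refine ⟨b, ?_⟩
  rw [h1, h3, h2]
  have h0 : ∀ D : Sy n F, A * D = ul p (bb w1 A) (B w1 (bb w1 A)) * D := fun D => by rw [← hA']
  rw [h0, ul_mul hb hCb]
  have h4 : rho n F C (bb w1 A) = bb w1 A + (a • p + b • q) := by rw [← hab]; abel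
  have h5 : bb w1 A + rho n F C (bb w1 A) = b • q + a • p := by
    rw [h4]
    ext k
    simp only [Pi.add_apply, Pi.smul_apply, smul_eq_mul]
    linear_combination (bb w1 A k) * (two0 : (2 : F) = 0)
  have h6 : B (bb w1 A) (rho n F C (bb w1 A)) = 0 := by
    rw [h4, sympForm_add_right, sympForm_add_right, sympForm_self, sympForm_smul_right, sympForm_smul_right, hb, hbq]
    ring
  have h7 : B (b • q : Ix n → F) p = 0 := by rw [sympForm_smul_left, fs q, H.pq, mul_zero]
  rw [h5, h6, CharTwo.add_self_eq_zero, add_zero, ul_add h7]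

/-- an element of `Q_s U_l` centralising `p^⊥ ∩ q^⊥` acts on `p^⊥ / p` as a transvection -/
theorem trans_of (H : Hyp p q w1 w2) (hC : IsQ p q C)
    (hJ : ∀ b, B b p = 0 → B b q = 0 → ∃ a : F, rho n F C b - b = a • p) {x : Ix n → F} (hx : B x p = 0) :
    ∃ a : F, rho n F C x - x = a • p + (B (rho n F C w2 - w2) w2 * B x q) • q := by
  have hy := inE_of_perp H (y := rho n F C w2 - w2) fun b h1 h2 => by
    rw [← hC.coord H h1 h2]
    obtain ⟨a, ha⟩ := hJ b h1 h2
    rw [ha, sympForm_smul_left, H.pw2, mul_zero]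
  obtain ⟨s1, s2⟩ := perp_split H hx
  obtain ⟨a, ha⟩ := hJ _ s1 s2
  have e : rho n F C x - x = (rho n F C (x - B x q • w2) - (x - B x q • w2)) + B x q • (rho n F C w2 - w2) := by
    rw [rsub, rsmul, smul_sub]; abel
  refine ⟨a + B x q * B (rho n F C w2 - w2) w1, ?_⟩
  rw [e, ha]
  conv_lhs => rw [hy]
  rw [smul_add, smul_smul, smul_smul, add_smul, mul_comm (B (rho n F C w2 - w2) w2)]
  abel

/-- **triv** -/
theorem triv (H : Hyp p q w1 w2) (hC : IsQ p q C)
    (hJ : ∀ b, B b p = 0 → B b q = 0 → ∃ a : F, rho n F C b - b = a • p) {s : Sy n F} (hs : rho n F s p = p)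
    (hs' : ∃ a : F, rho n F s q - q = a • p) : IsUL p (s * C * s⁻¹ * C⁻¹) := by
  obtain ⟨d, hd⟩ := hs'
  have hsq : rho n F s q = q + d • p := by rw [← hd]; abel
  have hsi : ∀ A : Sy n F, rho n F A p = p → rho n F A⁻¹ p = p := by
    intro A hA
    conv_lhs => rw [← hA]
    exact rinv' A p
  refine ⟨?_, fun x hx => ?_⟩
  · rw [rmul, rmul, rmul, hsi C hC.1, hsi s hs, hC.1, hs]
  · have hz : B (rho n F C⁻¹ x) p = 0 := by rw [form_p (hsi C hC.1), hx]
    have hz' : B (rho n F s⁻¹ (rho n F C⁻¹ x)) p = 0 := by rw [form_p (hsi s hs), hz]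
    obtain ⟨a, ha⟩ := hC.trans_of H hJ hz
    obtain ⟨b, hb⟩ := hC.trans_of H hJ hz'
    have h1 : B (rho n F s⁻¹ (rho n F C⁻¹ x)) q = B (rho n F C⁻¹ x) q := by
      have h2 := rform s (rho n F s⁻¹ (rho n F C⁻¹ x)) q
      rw [rinv, hsq, sympForm_add_right, sympForm_smul_right, hz, mul_zero, add_zero] at h2
      exact h2.symm
    rw [rinv] at ha
    rw [h1] at hb
    set c := B (rho n F C w2 - w2) w2
    set z := rho n F C⁻¹ x
    have h3 : rho n F C (rho n F s⁻¹ z) = rho n F s⁻¹ z + (b • p + (c * B z q) • q) := by rw [← hb]; abel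
    refine ⟨b + c * B z q * d - a, ?_⟩
    rw [rmul, rmul, rmul, h3, radd, radd, rsmul, rsmul, rinv, hs, hsq]
    have h4 : x = z + (a • p + (c * B z q) • q) := by rw [← ha]; abel
    conv_lhs => rw [h4]
    rw [sub_smul, add_smul, smul_add, smul_smul]
    abel

/-- the elements of `Q_s` -/
theorem isQ_ulq (H : Hyp p q w1 w2) {y : Ix n → F} (h1 : B y p = 0) (h2 : B y q = 0) (c : F) : IsQ p q (ul q y c) := by
  refine ⟨?_, ⟨0, ?_⟩, fun v h3 h4 => ⟨0, B v y, ?_⟩⟩
  · rw [rho_ul h2, H.pq, fs p y, h1, zero_smul, mul_zero, add_zero, add_zero, zero_smul, add_zero]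
  · rw [rho_ul h2, sympForm_self, fs q y, h2, zero_smul, mul_zero, add_zero, add_zero, zero_smul, add_zero, sub_self,
      zero_smul]
  · rw [rho_ul h2, h4, zero_smul, mul_zero, add_zero, add_zero, add_sub_cancel_left, zero_smul, zero_add]

/-- a vector of `p^⊥` fixed by `Q_s` modulo `p` is orthogonal to `⟨p, q⟩^⊥` -/
theorem inE_of_fix (H : Hyp p q w1 w2) {b : Ix n → F} (h : ∀ s, IsQ p q s → ∃ a : F, rho n F s b - b = a • p) :
    B b q = 0 ∧ ∀ y, B y p = 0 → B y q = 0 → B b y = 0 := by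
  have hz : ∀ (a c : F), a • p = c • q → c = 0 := by
    intro a c e
    have := congrArg (fun z => B z w2) e
    simp only [sympForm_smul_left, H.pw2, H.qw2] at this
    rw [mul_zero, mul_one] at this
    exact this.symm
  have h1 : B b q = 0 := by
    have h0 : B (0 : Ix n → F) p = 0 := sympForm_zero_left p
    have h0' : B (0 : Ix n → F) q = 0 := sympForm_zero_left q
    obtain ⟨a, ha⟩ := h _ (isQ_ulq H h0 h0' 1)
    rw [rho_ul h0', smul_zero, sympForm_zero_right, zero_add, one_mul, add_zero, add_sub_cancel_left] at ha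
    exact hz _ _ ha.symm
  refine ⟨h1, fun y h2 h3 => ?_⟩
  obtain ⟨a, ha⟩ := h _ (isQ_ulq H h2 h3 0)
  rw [rho_ul h3, h1, zero_smul, zero_mul, add_zero, add_zero, add_sub_cancel_left] at ha
  exact hz _ _ ha.symm

omit A C in
theorem fin_key (H : Hyp p q w1 w2) {b : Ix n → F} (hb : B b p = 0) (hbq : B b q = 0) {c c' d : F} (hc0 : c' ≠ 0)
    {s' : Sy n F} (h1 : rho n F s' p = p) (hd : rho n F s' q = q + d • p)
    (hcm : s' * (ul p b c * transv q c') = ul p b c * transv q c' * s') :
    ∃ a : F, rho n F s' b - b = a • p := by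
  have hpq' : B q p = 0 := by rw [fs, H.pq]
  have h2 : s' * (ul p b c * transv q c') * s'⁻¹ = ul p b c * transv q c' := by rw [hcm, mul_inv_cancel_right]
  have h3 : s' * ul p b c * s'⁻¹ = ul p (rho n F s' b) c := conj_ul hb c h1
  have hb'p : B (rho n F s' b) p = 0 := by rw [form_p h1, hb]
  have hb'q : B (rho n F s' b) q = 0 := by
    have e1 : q = rho n F s' (q - d • p) := by rw [rsub, rsmul, h1, hd]; abel
    conv_lhs => rw [e1]
    rw [rform, sympForm_sub_right, sympForm_smul_right, hb, hbq]; ring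
  have h4 : ∀ z, rho n F (s' * transv q c' * s'⁻¹) z = z + (c' * B z (q + d • p)) • (q + d • p) := by
    intro z
    rw [rmul, rmul, rho_transv, radd, rsmul, rinv, hd]
    congr 3
    rw [← hd]
    have := rform s' (rho n F s'⁻¹ z) q
    rw [rinv] at this
    exact this.symm
  have h5 : s' * (ul p b c * transv q c') * s'⁻¹ = (s' * ul p b c * s'⁻¹) * (s' * transv q c' * s'⁻¹) := by group
  rw [h2, h3] at h5
  have h6 : rho n F (ul p b c * transv q c') w1 = rho n F (ul p (rho n F s' b) c * (s' * transv q c' * s'⁻¹)) w1 := by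
    rw [← h5]
  rw [rmul, rmul] at h6
  have hw1p : B w1 p = 1 := by rw [fs, H.pw1]
  have hw1q : B w1 q = 0 := by rw [fs, H.qw1]
  have e1 : B w1 (q + d • p) = d := by
    rw [sympForm_add_right, sympForm_smul_right, hw1q, hw1p]; ring
  rw [rho_transv, h4, hw1q, mul_zero, zero_smul, add_zero, e1, rho_ul hb, rho_ul hb'p, hw1p] at h6
  have e2 : B (w1 + (c' * d) • (q + d • p)) p = 1 := by
    rw [sympForm_add_left, sympForm_smul_left, sympForm_add_left, sympForm_smul_left, sympForm_self, hpq', hw1p]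
    ring
  have e3 : B (w1 + (c' * d) • (q + d • p)) (rho n F s' b) = B w1 (rho n F s' b) := by
    rw [sympForm_add_left, sympForm_smul_left, sympForm_add_left, sympForm_smul_left, fs q, fs p, hb'p, hb'q]
    ring
  rw [e2, e3] at h6
  -- `d = 0`
  have h7 := congrArg (fun z => B z w1) h6
  simp only [sympForm_add_left, sympForm_smul_left, sympForm_self, H.pw1, H.qw1, fs b w1,
    fs (rho n F s' b) w1] at h7
  have h8 : c' * d * d = 0 := by
    linear_combination -h7 + (B w1 b - B w1 (rho n F s' b)) * (two0 : (2 : F) = 0)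
  have hd0 : d = 0 := by
    rcases mul_eq_zero.1 h8 with h9 | h9
    · exact (mul_eq_zero.1 h9).resolve_left hc0
    · exact h9
  rw [hd0, mul_zero, zero_smul, add_zero] at h6
  refine ⟨B w1 b - B w1 (rho n F s' b), ?_⟩
  ext k
  have h9 := congrFun h6 k
  simp only [Pi.add_apply, Pi.sub_apply, Pi.smul_apply, smul_eq_mul] at h9 ⊢
  linear_combination -h9

/-- **fin** -/
theorem fin_core (H : Hyp p q w1 w2) {x : Sy n F} (hx : IsQ p q x)
    (hJ : ∀ b, B b p = 0 → B b q = 0 → ∃ a : F, rho n F x b - b = a • p) (hxx : x * x = 1) (hnot : ¬ IsUL p x)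
    (hS : ∀ s, IsQ p q s → ∃ u, IsUL p u ∧ u⁻¹ * s * x = x * (u⁻¹ * s)) {v : Ix n → F} (hv : B v p = 0)
    (hv' : B v q = 0) : rho n F x v = v := by
  obtain ⟨c', hc'⟩ : ∃ c', c' = B (rho n F x w2 - w2) w2 := ⟨_, rfl⟩
  have htr : ∀ z, B z p = 0 → ∃ a : F, rho n F x z - z = a • p + (c' * B z q) • q := by
    intro z hz
    rw [hc']; exact hx.trans_of H hJ hz
  have hpq' : B q p = 0 := by rw [fs, H.pq]
  obtain ⟨l, hl⟩ := hx.2.1
  have hxq : rho n F x q = q + l • p := by rw [← hl]; abel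
  have hTv : ∀ z, rho n F (transv q c') z = z + (c' * B z q) • q := fun z => rho_transv q z c'
  obtain ⟨T, hT⟩ : ∃ T : Sy n F, T = transv q c' := ⟨_, rfl⟩
  rw [← hT] at hTv
  have hTT : T * T = 1 := by
    apply rext
    intro z
    rw [rmul, hTv, hTv, sympForm_add_left, sympForm_smul_left, sympForm_self, rone]
    ext k
    simp only [Pi.add_apply, Pi.smul_apply, smul_eq_mul]
    linear_combination (c' * B z q * q k) * (two0 : (2 : F) = 0)
  obtain ⟨w, hw⟩ : ∃ w : Sy n F, w = x * T := ⟨_, rfl⟩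
  have hTp : rho n F T p = p := by rw [hTv, H.pq, mul_zero, zero_smul, add_zero]
  have hwUL : IsUL p w := by
    refine ⟨by rw [hw, rmul, hTp, hx.1], fun z hz => ?_⟩
    obtain ⟨a, ha⟩ := htr z hz
    have ha' : rho n F x z = z + (a • p + (c' * B z q) • q) := by rw [← ha]; abel
    refine ⟨a + c' * B z q * l, ?_⟩
    rw [hw, rmul, hTv, radd, rsmul, hxq, ha']
    ext k
    simp only [Pi.add_apply, Pi.sub_apply, Pi.smul_apply, smul_eq_mul]
    linear_combination (c' * B z q * q k) * (two0 : (2 : F) = 0)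
  have hxw : x = w * T := by rw [hw, mul_assoc, hTT, mul_one]
  obtain ⟨b, c, hb, hweq⟩ : ∃ b c, B b p = 0 ∧ w = ul p b c := ⟨_, _, bb_perp hwUL.1, hwUL.eq H⟩
  have hc0 : c' ≠ 0 := by
    intro h0
    apply hnot
    have : x = w := by
      apply rext
      intro z
      rw [hxw, rmul, hTv, h0, zero_mul, zero_smul, add_zero]
    rw [this]; exact hwUL
  -- `w` and `T` commute
  have hcomm : T * w = w * T := by
    have h1 : w * T * (w * T) = 1 := by rw [← hxw]; exact hxx
    have h2 : w * w = 1 := hwUL.sq H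
    have h3 : w * T = T⁻¹ * w⁻¹ := by rw [← mul_inv_rev]; exact eq_inv_of_mul_eq_one_left h1
    rw [h3, inv_eq_of_mul_eq_one_right hTT, inv_eq_of_mul_eq_one_right h2]
  have hbq : B b q = 0 := by
    rw [hweq] at hcomm
    obtain ⟨a, ha⟩ := (comm_ul_iff H hTp hb c).1 hcomm
    rw [hTv, add_sub_cancel_left] at ha
    have := congrArg (fun z => B z w2) ha
    simp only [sympForm_smul_left, H.pw2, H.qw2] at this
    rw [mul_zero, mul_one] at this
    exact (mul_eq_zero.1 this).resolve_left hc0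
  -- `b` is fixed modulo `p`
  have key : ∀ s, IsQ p q s → ∃ a : F, rho n F s b - b = a • p := by
    intro s hs
    obtain ⟨u, hu, hcm⟩ := hS s hs
    have hui : rho n F u⁻¹ p = p := by
      conv_lhs => rw [← hu.1]
      exact rinv' u p
    have huinv : u⁻¹ = u := inv_eq_of_mul_eq_one_right (hu.sq H)
    have h1 : rho n F (u⁻¹ * s) p = p := by rw [rmul, hs.1, hui]
    obtain ⟨d, hd⟩ : ∃ d : F, rho n F (u⁻¹ * s) q = q + d • p := by
      obtain ⟨a, ha⟩ := hs.2.1
      obtain ⟨a', ha'⟩ := hu.2 q hpq'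
      have e1 : rho n F s q = q + a • p := by rw [← ha]; abel
      have e2 : rho n F u q = q + a' • p := by rw [← ha']; abel
      exact ⟨a' + a, by rw [rmul, e1, huinv, radd, rsmul, hu.1, e2, add_smul]; abel⟩
    rw [hxw, hweq, hT] at hcm
    obtain ⟨m, hm⟩ := fin_key H hb hbq hc0 h1 hd hcm
    obtain ⟨a', ha'⟩ := hu.2 b hb
    have e5 : s = u * (u⁻¹ * s) := by rw [mul_inv_cancel_left]
    have e6 : rho n F u b = b + a' • p := by rw [← ha']; abel
    have e7 : rho n F (u⁻¹ * s) b = b + m • p := by rw [← hm]; abel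
    refine ⟨a' + m, ?_⟩
    rw [e5, rmul, e7, radd, rsmul, hu.1, e6, add_smul]
    abel
  obtain ⟨-, hE⟩ := inE_of_fix H key
  rw [hxw, rmul, hTv, hv', mul_zero, zero_smul, add_zero, hweq]
  rw [rho_ul hb, hv, fs v b, hE v hv hv', mul_zero, add_zero, zero_smul, zero_smul, add_zero, add_zero]

end IsQ

end chartwo

end Cfsg.Agent.Omega.All.SpN.Off
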