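import Cfsg.Agent.Omega.All.HOneDat

/-!
# Transfer of `Offer` along an injective homomorphism (helper678)
-/

set_option autoImplicit false
set_option linter.unusedSectionVars false

namespace Cfsg.Agent.Omega.All.SpN.Trans

open Cfsg Subgroup
open Cfsg.Agent.Omega.All.HOne

universe u v

variable {K : Type u} [Group K] {G : Type v} [Group G] {f : K →* G} (hf : Function.Injective f)

theorem map_comap {T : Subgroup G} {P : Subgroup K} (h : T ≤ P.map f) : (T.comap f).map f = T := by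
  rw [Subgroup.map_comap_eq, inf_eq_right.2 (h.trans (map_le_range _ _))]

include hf

theorem mem_map {P : Subgroup K} {A : K} : f A ∈ P.map f ↔ A ∈ P :=
  ⟨fun ⟨_, hB, e⟩ => hf e ▸ hB, fun h => ⟨A, h, rfl⟩⟩

theorem comap_map (P : Subgroup K) : (P.map f).comap f = P := by
  ext A
  rw [mem_comap, mem_map hf]

theorem mem_cen {P : Subgroup K} {A : K} :
    f A ∈ centralizer ((P.map f : Subgroup G) : Set G) ↔ A ∈ centralizer (P : Set K) := by
  rw [mem_centralizer_iff, mem_centralizer_iff]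
  constructor
  · intro h B hB
    apply hf
    rw [map_mul, map_mul]
    exact h _ ⟨B, hB, rfl⟩
  · rintro h _ ⟨B, hB, rfl⟩
    rw [← map_mul, ← map_mul, h B hB]

theorem map_inf_cen (P Q : Subgroup K) :
    (P ⊓ centralizer (Q : Set K)).map f = P.map f ⊓ centralizer ((Q.map f : Subgroup G) : Set G) := by
  apply le_antisymm
  · rintro _ ⟨A, ⟨hA, hA'⟩, rfl⟩
    exact ⟨⟨A, hA, rfl⟩, (mem_cen hf).2 hA'⟩
  · rintro _ ⟨⟨A, hA, rfl⟩, h⟩
    exact ⟨A, ⟨hA, (mem_cen hf).1 h⟩, rfl⟩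

theorem map_inf (P Q : Subgroup K) : (P ⊓ Q).map f = P.map f ⊓ Q.map f := by
  apply le_antisymm
  · rintro _ ⟨A, ⟨hA, hA'⟩, rfl⟩
    exact ⟨⟨A, hA, rfl⟩, ⟨A, hA', rfl⟩⟩
  · rintro _ ⟨⟨A, hA, rfl⟩, h⟩
    exact ⟨A, ⟨hA, (mem_map hf).1 h⟩, rfl⟩

theorem card_map (P : Subgroup K) : Nat.card ↥(P.map f) = Nat.card P :=
  (Nat.card_congr (P.equivMapOfInjective f hf).toEquiv).symm

theorem map_el {P : Subgroup K} (h : IsElementaryAbelian 2 P) : IsElementaryAbelian 2 (P.map f) := by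
  refine ⟨⟨⟨fun x y => Subtype.ext ?_⟩⟩, ?_⟩
  · obtain ⟨_, A, hA, rfl⟩ := x
    obtain ⟨_, B, hB, rfl⟩ := y
    show f A * f B = f B * f A
    have h1 := h.1.is_comm.comm ⟨A, hA⟩ ⟨B, hB⟩
    have h2 : A * B = B * A := congrArg Subtype.val h1
    rw [← map_mul, ← map_mul, h2]
  · rintro _ ⟨A, hA, rfl⟩
    rw [← map_pow, h.2 A hA, map_one]

theorem comap_el {V : Subgroup G} (h : IsElementaryAbelian 2 V) : IsElementaryAbelian 2 (V.comap f) := by
  refine ⟨⟨⟨fun x y => Subtype.ext (hf ?_)⟩⟩, ?_⟩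
  · show f (x.1 * y.1) = f (y.1 * x.1)
    have h1 := h.1.is_comm.comm ⟨f x.1, x.2⟩ ⟨f y.1, y.2⟩
    have h2 : f x.1 * f y.1 = f y.1 * f x.1 := congrArg Subtype.val h1
    rw [map_mul, map_mul, h2]
  · intro A hA
    apply hf
    rw [map_pow, map_one]
    exact h.2 _ hA

theorem norm_map {P Q : Subgroup K} (h : P ≤ normalizer (Q : Set K)) :
    P.map f ≤ normalizer ((Q.map f : Subgroup G) : Set G) := by
  rintro _ ⟨A, hA, rfl⟩
  rw [mem_normalizer_iff]
  intro y
  constructor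
  · rintro ⟨B, hB, rfl⟩
    exact ⟨A * B * A⁻¹, (mem_normalizer_iff.1 (h hA) B).1 hB, by rw [map_mul, map_mul, map_inv]⟩
  · rintro ⟨B, hB, e⟩
    refine ⟨A⁻¹ * B * A, (mem_normalizer_iff''.1 (h hA) B).1 hB, ?_⟩
    rw [map_mul, map_mul, e, map_inv]; group

/-- transfer of `Offer` -/
theorem offer_map {S₀ QQ U J X U' : Subgroup K} (O : Offer S₀ QQ U J X U') :
    Offer (S₀.map f) (QQ.map f) (U.map f) (J.map f) (X.map f) (U'.map f) where
  U_el := map_el hf O.U_el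
  U_S₀ := Subgroup.map_mono O.U_S₀
  QQ_S₀ := Subgroup.map_mono O.QQ_S₀
  QQ_U := norm_map hf O.QQ_U
  J_U := Subgroup.map_mono O.J_U
  comm := by
    rintro _ ⟨A, hA, rfl⟩ _ ⟨B, hB, rfl⟩
    exact ⟨_, O.comm A hA B hB, by simp only [map_mul, map_inv]⟩
  fix := by
    rintro _ ⟨A, hA, rfl⟩ h _ ⟨B, hB, rfl⟩ e
    rw [mem_cen hf] at h
    rw [← map_mul, ← map_mul] at e
    exact ⟨B, O.fix A hA h B hB (hf e), rfl⟩
  card := by
    rw [card_map hf, card_map hf, card_map hf]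
    exact O.card
  off := by
    intro V hV
    have h := O.off (V.comap f) fun A hA => (mem_map hf).1 (hV hA)
    have e := map_comap hV
    rw [← card_map hf (V.comap f), ← card_map hf (U ⊓ centralizer ((V.comap f : Subgroup K) : Set K)),
      ← card_map hf U, ← card_map hf (V.comap f ⊓ centralizer (U : Set K)), map_inf_cen hf, map_inf_cen hf, e] at h
    exact h
  triv := by
    rintro _ ⟨s, hs, rfl⟩ v ⟨⟨A, hA, rfl⟩, hv⟩
    rw [← map_inv, ← map_inv, ← map_mul, ← map_mul, ← map_mul]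
    exact (mem_cen hf).2 (O.triv s hs A ⟨hA, (mem_cen hf).1 hv⟩)
  fin := by
    intro V hV hel hne hs
    have hVQ : V ≤ QQ.map f := hV.trans inf_le_left
    have e := map_comap hVQ
    have h1 : V.comap f ≤ U' := by
      refine O.fin (V.comap f) ?_ (comap_el hf hel) ?_ ?_
      · intro A hA
        obtain ⟨h2, h3⟩ := hV hA
        exact ⟨(mem_map hf).1 h2, (mem_cen hf).1 h3⟩
      · intro h2
        apply hne
        rw [← e]
        rintro _ ⟨A, hA, rfl⟩
        exact (mem_cen hf).2 (h2 hA)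
      · intro s hs'
        obtain ⟨_, ⟨u, hu, rfl⟩, h2⟩ := hs (f s) ⟨s, hs', rfl⟩
        refine ⟨u, hu, ?_⟩
        rw [← map_inv, ← map_mul, ← e] at h2
        exact (mem_cen hf).1 h2
    rw [← e]
    exact Subgroup.map_mono h1

end Cfsg.Agent.Omega.All.SpN.Trans
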