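import Cfsg.Agent.Omega.All.SpN.OZ
import Cfsg.Agent.Omega.All.SpN.Trans

/-!
# THEOREM F1-h1, `Sp_2n(q)`: assembly of `SpDat` (helper678)

* `Hyp.spDat_of` : `SpDat` from the facts `Inn` inside `Sp_2n(F)` (`Offer`, `lcs`, `cen`; file `Off`);
* `exists_hyp` : the standard position of `S`.
-/

set_option autoImplicit false
set_option linter.unusedSectionVars false

namespace Cfsg.Agent.Omega.All.SpN

open Cfsg Cfsg.Agent.ClassicalGeometry.SympBasic Cfsg.Agent.ClassicalGeometry.SympAutSemi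
open Cfsg.Agent.OddHalf.SpN Cfsg.Agent.OddHalf.SpN.Out
open Subgroup Cfsg.Agent.ZN
open Cfsg.Agent.Omega.FrameNOFF (CZ)
open Cfsg.Agent.Omega.All.HOne
open scoped Matrix commutatorElement

variable {n : ℕ} {F : Type*} [Field F] [Finite F] [CharP F 2]

/-- The facts on `U_l` inside `Sp_2n(F)`. -/
structure Inn (F : Type*) [Field F] [Finite F] [CharP F 2] (hn : 3 ≤ n) : Prop where
  offer : Offer (Up n F) (QSL (i0 hn) (i1 hn) : Subgroup (Sy n F)) (UL (i0 hn) : Subgroup (Sy n F))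
    ((UL (i0 hn) : Subgroup (Sy n F)) ⊓ (QS (i0 hn) (i1 hn) : Subgroup (Sy n F))) (X12 hn : Subgroup (Sy n F))
    (US (i0 hn) (i1 hn) : Subgroup (Sy n F))
  lcs : ⁅⁅(QSL (i0 hn) (i1 hn) : Subgroup (Sy n F)), (QSL (i0 hn) (i1 hn) : Subgroup (Sy n F))⁆,
    (QSL (i0 hn) (i1 hn) : Subgroup (Sy n F))⁆ = (X12 hn : Subgroup (Sy n F))
  cen : (QSL (i0 hn) (i1 hn) : Subgroup (Sy n F)) ⊓
    centralizer ((UL (i0 hn) : Subgroup (Sy n F)) : Set (Sy n F)) ≤ (UL (i0 hn) : Subgroup (Sy n F))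

variable {G : Type*} [Group G] {ι : Sy n F →* G} {S : Subgroup G}

theorem Hyp.spDat_of [Finite G] (H : Hyp ι S) {hn : 3 ≤ n} (I : Inn F hn)
    (hN : normalizer (((X12 hn).map ι : Subgroup G) : Set G) ≤ normalizer (ι.range : Set G)) :
    SpDat S (S ⊓ ι.range) (normalizer (ι.range : Set G)) ((C0 hn).map ι) ((X12 hn).map ι)
      ((QS (i0 hn) (i1 hn)).map ι) ((US (i0 hn) (i1 hn)).map ι) ((UL (i0 hn)).map ι) where
  side := H.side hn
  S_Y := H.S_Y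
  S₀_S := inf_le_left
  N_Y := hN
  S_Ul := H.S_UL hn
  Xs_Ul := Subgroup.map_mono X12_le_UL
  oZ := H.oZ hn
  lcs := by
    rw [H.QSL_map hn, ← Subgroup.map_commutator, ← Subgroup.map_commutator, I.lcs]
  cen := by
    rw [H.QSL_map hn, ← Trans.map_inf_cen H.inj]
    exact Subgroup.map_mono I.cen
  typ_l := fun _ hu => H.typ_l hn hu
  offer := by
    rw [H.QSL_map hn, H.U_eq, ← Trans.map_inf H.inj]
    exact Trans.offer_map H.inj I.offer

theorem Hyp.of_le (hι : Function.Injective ι) (hcen : ∀ c : G, (∀ A, ι A * c = c * ι A) → c = 1)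
    (pS : IsPGroup 2 S) (max : ∀ P : Subgroup G, IsPGroup 2 P → S ≤ P → P ≤ S)
    (S_Y : S ≤ normalizer (ι.range : Set G)) (hU : (Up n F).map ι ≤ S) : Hyp ι S where
  inj := hι
  cen := hcen
  pS := pS
  max := max
  S_Y := S_Y
  U_eq := by
    apply le_antisymm
    · rintro _ ⟨hx, ⟨A, rfl⟩⟩
      have h1 : IsPGroup 2 ((S.comap ι : Subgroup (Sy n F))) := pS.comap_of_injective ι hι
      exact ⟨A, Up_max h1 (fun B hB => hU ⟨B, hB, rfl⟩) hx, rfl⟩
    · rintro _ ⟨A, hA, rfl⟩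
      exact ⟨hU ⟨A, hA, rfl⟩, ⟨A, rfl⟩⟩

/-- the standard position of `S` -/
theorem exists_hyp [Finite G] {ι₀ : Sy n F →* G} (hι : Function.Injective ι₀)
    (hcen : ∀ c : G, (∀ A, ι₀ A * c = c * ι₀ A) → c = 1) (S : Sylow 2 G)
    (hS : (S : Subgroup G) ≤ normalizer (ι₀.range : Set G)) :
    ∃ (ι : Sy n F →* G) (y : G), y ∈ normalizer (ι₀.range : Set G) ∧ (∀ A, ι A = y * ι₀ A * y⁻¹) ∧
      ι.range = ι₀.range ∧ Hyp ι (S : Subgroup G) := by
  have : Fact (Nat.Prime 2) := ⟨Nat.prime_two⟩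
  set Y := normalizer (ι₀.range : Set G) with hY
  have h1 : IsPGroup 2 (((Up n F).map ι₀).subgroupOf Y) :=
    (isPGroup_Up.map ι₀).comap_of_injective Y.subtype Y.subtype_injective
  obtain ⟨T, hT⟩ := h1.exists_le_sylow
  obtain ⟨y, hy⟩ := MulAction.exists_smul_eq Y T (S.subtype hS)
  have hYr : ι₀.range ≤ Y := le_normalizer
  have key : ∀ A ∈ Up n F, (y : G) * ι₀ A * (y : G)⁻¹ ∈ (S : Subgroup G) := by
    intro A hA
    have h2 : (⟨ι₀ A, hYr ⟨A, rfl⟩⟩ : Y) ∈ (T : Subgroup Y) := hT ⟨A, hA, rfl⟩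
    have h3 : y * ⟨ι₀ A, hYr ⟨A, rfl⟩⟩ * y⁻¹ ∈ ((y • T : Sylow 2 Y) : Subgroup Y) := by
      rw [Sylow.coe_subgroup_smul]
      exact ⟨_, h2, rfl⟩
    rw [hy] at h3
    exact h3
  let ι : Sy n F →* G := (MulAut.conj (y : G)).toMonoidHom.comp ι₀
  have hιe : ∀ A, ι A = (y : G) * ι₀ A * (y : G)⁻¹ := fun A => rfl
  have hr : ι.range = ι₀.range := by
    ext x
    constructor
    · rintro ⟨A, rfl⟩
      exact (mem_normalizer_iff.1 y.2 _).1 ⟨A, rfl⟩
    · intro hx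
      obtain ⟨A, hA⟩ := (mem_normalizer_iff''.1 y.2 x).1 hx
      exact ⟨A, by rw [hιe, hA]; group⟩
  refine ⟨ι, y, y.2, hιe, hr, Hyp.of_le (fun A B h => hι ?_) (fun c hc => ?_) S.2 (fun P hP hSP => ?_) ?_ ?_⟩
  · rw [hιe, hιe] at h
    exact mul_left_cancel (mul_right_cancel h)
  · have h2 : (y : G)⁻¹ * c * y = 1 := by
      apply hcen
      intro A
      have h3 := hc A
      rw [hιe] at h3
      calc ι₀ A * ((y : G)⁻¹ * c * y) = (y : G)⁻¹ * ((y : G) * ι₀ A * (y : G)⁻¹ * c) * y := by group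
        _ = (y : G)⁻¹ * (c * ((y : G) * ι₀ A * (y : G)⁻¹)) * y := by rw [h3]
        _ = _ := by group
    calc c = (y : G) * ((y : G)⁻¹ * c * y) * (y : G)⁻¹ := by group
      _ = 1 := by rw [h2]; group
  · exact le_of_eq (S.3 hP hSP)
  · rw [hr]; exact hS
  · rintro _ ⟨A, hA, rfl⟩
    exact key A hA

end Cfsg.Agent.Omega.All.SpN
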