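import Cfsg.Agent.Omega.All.SpN.Defs

/-!
# THEOREM F1-h1, `Sp_2n(q)`: semi-isometries preserving `E = ⟨e_1, e_2⟩` (and `⟨e_1⟩`) (helper678)

`FixE p q s`, `FixL p s`; such `s` normalise `Q_s`, `U_s` (and `U_l`, `Q_s U_l`). Triangular semi-isometries and
elements commuting with `x_12(a)`, `y_1(b)` are such.
-/

set_option autoImplicit false

namespace Cfsg.Agent.Omega.All.SpN

open Cfsg Cfsg.Agent.ClassicalGeometry.SympBasic Cfsg.Agent.ClassicalGeometry.SympAutSemi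
open Cfsg.Agent.OddHalf.SpN Cfsg.Agent.OddHalf.SpN.Out
open scoped Matrix commutatorElement

variable {n : ℕ} {F : Type*} [Field F] {p q : Ix n}

/-- `s` preserves `E` -/
structure FixE (p q : Ix n) (s : Equiv.Perm (Ix n → F)) : Prop where
  fwd : ∀ v, InE p q v → InE p q (s v)
  bwd : ∀ v, InE p q v → InE p q (s⁻¹ v)

/-- `s` preserves `⟨e_p⟩` -/
structure FixL (p : Ix n) (s : Equiv.Perm (Ix n → F)) : Prop where
  fwd : InL p (s (be n F p))
  bwd : InL p (s⁻¹ (be n F p))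

section basic

variable {s : Equiv.Perm (Ix n → F)} {φ : F ≃+* F}

theorem FixE.inv (h : FixE p q s) : FixE p q s⁻¹ := ⟨h.bwd, by rw [inv_inv]; exact h.fwd⟩

theorem FixL.inv (h : FixL p s) : FixL p s⁻¹ := ⟨h.bwd, by rw [inv_inv]; exact h.fwd⟩

theorem FixL.fwd' (hs : SI s φ) (h : FixL p s) {v : Ix n → F} (hv : InL p v) : InL p (s v) := by
  obtain ⟨a, rfl⟩ := hv
  rw [hs.smul]
  exact h.fwd.smul _

theorem fixE_of (hs : SI s φ) (h1 : InE p q (s (be n F p))) (h2 : InE p q (s (be n F q)))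
    (h3 : InE p q (s⁻¹ (be n F p))) (h4 : InE p q (s⁻¹ (be n F q))) : FixE p q s := by
  constructor
  · rintro _ ⟨a, b, rfl⟩
    rw [hs.add, hs.smul, hs.smul]
    exact (h1.smul _).add (h2.smul _)
  · rintro _ ⟨a, b, rfl⟩
    rw [hs.inv'.add, hs.inv'.smul, hs.inv'.smul]
    exact (h3.smul _).add (h4.smul _)

variable [CharP F 2]

theorem FixE.prp (hs : SI s φ) (h : FixE p q s) {v : Ix n → F} (hv : Prp p q v) : Prp p q (s v) := by
  have key : ∀ w : Ix n → F, InE p q w → sympForm n F (s v) w = 0 := by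
    intro w hw
    obtain ⟨a, b, e⟩ := h.bwd w hw
    have h1 := hs.form v (s⁻¹ w)
    rw [perm_apply_inv_self, e, sympForm_add_right, sympForm_smul_right, sympForm_smul_right, form_be, form_be, hv.1,
      hv.2, mul_zero, mul_zero, add_zero, map_zero] at h1
    exact h1
  exact ⟨by have := key _ InE.left; rwa [form_be] at this, by have := key _ InE.right; rwa [form_be] at this⟩

theorem FixL.perp (hs : SI s φ) (h : FixL p s) {v : Ix n → F} (hv : v (neg p) = 0) : s v (neg p) = 0 := by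
  obtain ⟨a, e⟩ := h.bwd
  have h1 := hs.form v (s⁻¹ (be n F p))
  rw [perm_apply_inv_self, e, sympForm_smul_right, form_be, form_be, hv, mul_zero, map_zero] at h1
  exact h1

variable [Finite F] {A B : Sy n F}

omit [CharP F 2] [Finite F] in
theorem conj_apply (e : rho n F B = s * rho n F A * s⁻¹) (v : Ix n → F) :
    rho n F B v = s (rho n F A (s⁻¹ v)) := by
  rw [e, Equiv.Perm.mul_apply, Equiv.Perm.mul_apply]

omit [CharP F 2] [Finite F] in
theorem conj_sub (hs : SI s φ) (e : rho n F B = s * rho n F A * s⁻¹) (v : Ix n → F) :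
    rho n F B v - v = s (rho n F A (s⁻¹ v) - s⁻¹ v) := by
  rw [conj_apply e, SI.sub hs, perm_apply_inv_self]

theorem conj_QS (hs : SI s φ) (h : FixE p q s) (hA : A ∈ QS p q) (e : rho n F B = s * rho n F A * s⁻¹) :
    B ∈ QS p q := by
  have hfix : ∀ v, InE p q v → rho n F A v = v := by
    rintro _ ⟨a, b, rfl⟩
    rw [radd, rsmul, rsmul, hA.1, hA.2.1]
  refine ⟨?_, ?_, fun v hv => ?_⟩
  · rw [conj_apply e, hfix _ (h.bwd _ InE.left), perm_apply_inv_self]
  · rw [conj_apply e, hfix _ (h.bwd _ InE.right), perm_apply_inv_self]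
  · rw [conj_sub hs e]
    exact h.fwd _ (hA.2.2 _ (h.inv.prp hs.inv' hv))

theorem conj_US (hs : SI s φ) (h : FixE p q s) (hA : A ∈ US p q) (e : rho n F B = s * rho n F A * s⁻¹) :
    B ∈ US p q := by
  intro v hv
  rw [conj_apply e, hA _ (h.inv.prp hs.inv' hv), perm_apply_inv_self]

theorem conj_UL (hs : SI s φ) (h : FixL p s) (hA : A ∈ UL p) (e : rho n F B = s * rho n F A * s⁻¹) :
    B ∈ UL p := by
  refine ⟨?_, fun v hv => ?_⟩
  · obtain ⟨a, ea⟩ := h.bwd
    rw [conj_apply e, ea, rsmul, hA.1, ← ea, perm_apply_inv_self]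
  · rw [conj_sub hs e]
    exact h.fwd' hs (hA.2 _ (h.inv.perp hs.inv' hv))

theorem conj_QSL (hs : SI s φ) (h : FixE p q s) (h' : FixL p s) (hA : A ∈ QSL p q)
    (e : rho n F B = s * rho n F A * s⁻¹) : B ∈ QSL p q := by
  have hfix : ∀ v, InE p q v → InL p (rho n F A v - v) := by
    rintro _ ⟨a, b, rfl⟩
    have e : rho n F A (a • be n F p + b • be n F q) - (a • be n F p + b • be n F q) =
        b • (rho n F A (be n F q) - be n F q) := by
      rw [radd, rsmul, rsmul, hA.1, smul_sub]; abel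
    rw [e]
    exact hA.2.1.smul _
  refine ⟨?_, ?_, fun v hv => ?_⟩
  · obtain ⟨a, ea⟩ := h'.bwd
    rw [conj_apply e, ea, rsmul, hA.1, ← ea, perm_apply_inv_self]
  · rw [conj_sub hs e]
    exact h'.fwd' hs (hfix _ (h.bwd _ InE.right))
  · rw [conj_sub hs e]
    exact h.fwd _ (hA.2.2 _ (h.inv.prp hs.inv' hv))

end basic

/-! ### triangular semi-isometries -/

/-- `1` -/
def i0 (hn : 3 ≤ n) : Ix n := Sum.inl (c0 hn)

/-- `2` -/
def i1 (hn : 3 ≤ n) : Ix n := Sum.inl (c1 hn)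

/-- `3` -/
def i2 (hn : 3 ≤ n) : Ix n := Sum.inl (c2 hn)

section idx

variable (hn : 3 ≤ n)

theorem d01 : Dj (i0 hn) (i1 hn) := dj_ll (c01 hn)

theorem d02 : Dj (i0 hn) (i2 hn) := dj_ll (by simp [c0, c2])

theorem d12 : Dj (i1 hn) (i2 hn) := dj_ll (by simp [c1, c2])

end idx

section tri

variable {s : Equiv.Perm (Ix n → F)} {φ : F ≃+* F} {d : Fin n → F} (hn : 3 ≤ n)

theorem Tri.e0 (h : Tri s d) : s (be n F (i0 hn)) = d (c0 hn) • be n F (i0 hn) := by
  ext m
  rw [Pi.smul_apply, smul_eq_mul, be_apply]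
  rcases m with m | m
  · by_cases hm : m = c0 hn
    · subst hm; rw [i0, h.dg, if_pos rfl, mul_one]
    · have hlt : c0 hn < m := by
        have a0 : m.1 ≠ 0 := fun e => hm (Fin.ext e)
        show 0 < m.1
        omega
      rw [i0, h.up _ _ hlt, if_neg (fun e => hm (Sum.inl_injective e)), mul_zero]
  · rw [i0, h.lo, if_neg (by simp), mul_zero]

theorem Tri.e1 (h : Tri s d) : ∃ μ : F, s (be n F (i1 hn)) =
    d (c1 hn) • be n F (i1 hn) + μ • be n F (i0 hn) := by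
  refine ⟨s (be n F (i1 hn)) (i0 hn), ?_⟩
  ext m
  rw [Pi.add_apply, Pi.smul_apply, Pi.smul_apply, smul_eq_mul, smul_eq_mul, be_apply, be_apply]
  rcases m with m | m
  · by_cases hm : m = c0 hn
    · subst hm
      rw [i0, i1, if_neg (fun e => c01 hn (Sum.inl_injective e)), if_pos rfl, mul_one, mul_zero, zero_add]
    by_cases hm1 : m = c1 hn
    · subst hm1
      rw [i0, i1, h.dg, if_pos rfl, if_neg (fun e => hm (Sum.inl_injective e)), mul_one, mul_zero, add_zero]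
    · have hlt : c1 hn < m := by
        have a0 : m.1 ≠ 0 := fun e => hm (Fin.ext e)
        have a1 : m.1 ≠ 1 := fun e => hm1 (Fin.ext e)
        show 1 < m.1
        omega
      rw [i0, i1, h.up _ _ hlt, if_neg (fun e => hm1 (Sum.inl_injective e)), if_neg (fun e => hm (Sum.inl_injective e)),
        mul_zero, mul_zero, add_zero]
  · rw [i0, i1, h.lo, if_neg (by simp), if_neg (by simp), mul_zero, mul_zero, add_zero]

/-- modulo `E` -/
theorem Tri.e2 (h : Tri s d) : InE (i0 hn) (i1 hn) (s (be n F (i2 hn)) - d (c2 hn) • be n F (i2 hn)) := by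
  refine ⟨s (be n F (i2 hn)) (i0 hn), s (be n F (i2 hn)) (i1 hn), ?_⟩
  have h02 : c0 hn ≠ c2 hn := by simp [c0, c2]
  have h12 : c1 hn ≠ c2 hn := by simp [c1, c2]
  ext m
  rw [Pi.sub_apply, Pi.add_apply, Pi.smul_apply, Pi.smul_apply, Pi.smul_apply, smul_eq_mul, smul_eq_mul, smul_eq_mul,
    be_apply, be_apply, be_apply]
  rcases m with m | m
  · by_cases hm : m = c0 hn
    · subst hm
      simp [i0, i1, i2, c01 hn, h02]
    by_cases hm1 : m = c1 hn
    · subst hm1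
      simp [i0, i1, i2, (c01 hn).symm, h12]
    by_cases hm2 : m = c2 hn
    · subst hm2
      simp [i0, i1, i2, h02.symm, h12.symm, h.dg]
    · have hlt : c2 hn < m := by
        have a0 : m.1 ≠ 0 := fun e => hm (Fin.ext e)
        have a1 : m.1 ≠ 1 := fun e => hm1 (Fin.ext e)
        have a2 : m.1 ≠ 2 := fun e => hm2 (Fin.ext e)
        show 2 < m.1
        omega
      simp [i0, i1, i2, hm, hm1, hm2, h.up _ _ hlt]
  · simp [i0, i1, i2, h.lo]

theorem Tri.fixL [Finite F] (hs : SI s φ) (h : Tri s d) : FixL (i0 hn) s :=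
  ⟨⟨_, Tri.e0 hn h⟩, ⟨_, Tri.e0 hn (Tri.inv hs h).1⟩⟩

theorem Tri.fixE [Finite F] (hs : SI s φ) (h : Tri s d) : FixE (i0 hn) (i1 hn) s := by
  refine fixE_of hs (Tri.fixL hn hs h).fwd.inE ?_ (Tri.fixL hn hs h).bwd.inE ?_
  · obtain ⟨μ, e⟩ := Tri.e1 hn h
    exact ⟨μ, d (c1 hn), by rw [e, add_comm]⟩
  · obtain ⟨μ, e⟩ := Tri.e1 hn (Tri.inv hs h).1
    exact ⟨μ, _, by rw [e, add_comm]⟩

end tri

/-! ### semi-isometries commuting with `x_12(a)`, `y_1(b)` -/

section comm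

variable [CharP F 2] {s : Equiv.Perm (Ix n → F)} {φ : F ≃+* F} (hn : 3 ≤ n)

theorem zz_sub (a b : F) (v : Ix n → F) : rho n F (zz hn a b) v - v =
    (a * v (neg (i1 hn)) + b * v (neg (i0 hn))) • be n F (i0 hn) + (a * v (neg (i0 hn))) • be n F (i1 hn) := by
  rw [rho_zz, i0, i1, neg_inl, neg_inl]; abel

theorem comm_inE (hs : SI s φ) {a : F} (ha : a ≠ 0) (h : rho n F (zz hn a 0) * s = s * rho n F (zz hn a 0))
    {v : Ix n → F} (hv : InE (i0 hn) (i1 hn) v) : InE (i0 hn) (i1 hn) (s v) := by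
  obtain ⟨x, y, rfl⟩ := hv
  set w : Ix n → F := (a⁻¹ * x) • be n F (neg (i1 hn)) + (a⁻¹ * y) • be n F (neg (i0 hn)) with hw
  have e : x • be n F (i0 hn) + y • be n F (i1 hn) = rho n F (zz hn a 0) w - w := by
    have h01 := (d01 hn).1
    rw [zz_sub, hw]
    simp [be_apply, h01, h01.symm, ha]
  rw [e, SI.sub hs]
  have h1 : s (rho n F (zz hn a 0) w) = rho n F (zz hn a 0) (s w) := by
    rw [← Equiv.Perm.mul_apply, ← h, Equiv.Perm.mul_apply]
  rw [h1, zz_sub]
  exact ⟨_, _, rfl⟩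

theorem fixE_of_comm (hs : SI s φ) {a : F} (ha : a ≠ 0)
    (h : rho n F (zz hn a 0) * s = s * rho n F (zz hn a 0)) : FixE (i0 hn) (i1 hn) s := by
  refine ⟨fun v hv => comm_inE hn hs ha h hv, fun v hv => comm_inE hn hs.inv' ha ?_ hv⟩
  rw [eq_inv_mul_iff_mul_eq, ← mul_assoc, ← h, mul_assoc, mul_inv_cancel, mul_one]

theorem comm_inL (hs : SI s φ) {b : F} (hb : b ≠ 0) (h : rho n F (zz hn 0 b) * s = s * rho n F (zz hn 0 b)) :
    InL (i0 hn) (s (be n F (i0 hn))) := by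
  have e : be n F (i0 hn) = rho n F (zz hn 0 b) (b⁻¹ • be n F (neg (i0 hn))) - b⁻¹ • be n F (neg (i0 hn)) := by
    rw [zz_sub]
    simp [be_apply, hb]
  rw [e, SI.sub hs, ← Equiv.Perm.mul_apply, ← h, Equiv.Perm.mul_apply, zz_sub]
  exact ⟨_, by rw [zero_mul, zero_add, zero_mul, zero_smul, add_zero]⟩

theorem fixL_of_comm (hs : SI s φ) {b : F} (hb : b ≠ 0)
    (h : rho n F (zz hn 0 b) * s = s * rho n F (zz hn 0 b)) : FixL (i0 hn) s := by
  refine ⟨comm_inL hn hs hb h, comm_inL hn hs.inv' hb ?_⟩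
  rw [eq_inv_mul_iff_mul_eq, ← mul_assoc, ← h, mul_assoc, mul_inv_cancel, mul_one]

end comm

end Cfsg.Agent.Omega.All.SpN
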