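import Cfsg.Agent.Omega.All.SpN.Inner2

/-!
# THEOREM F1-h1, `Sp_2n(q)`: facts inside `Sp_2n(F)`, III (helper678)

* `QSL_eq` : `QSL = QS ⊔ UL`; `conj_zz_sh` (torus); `typ_US`, `typ_UL` : every element of `U_s`, `U_l` is conjugate into
  a group containing some `x_12(a) ≠ 1` and some `y_1(b) ≠ 1`.
-/

set_option autoImplicit false
set_option linter.unusedSectionVars false

namespace Cfsg.Agent.Omega.All.SpN

open Cfsg Cfsg.Agent.ClassicalGeometry.SympBasic Cfsg.Agent.ClassicalGeometry.SympAutSemi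
open Cfsg.Agent.OddHalf.SpN Cfsg.Agent.OddHalf.SpN.Out
open scoped Matrix commutatorElement

variable {n : ℕ} {F : Type*} [Field F] [CharP F 2] {hn : 3 ≤ n} [Finite F] {A B : Sy n F}

theorem QSL_eq : (QSL (i0 hn) (i1 hn) : Subgroup (Sy n F)) = QS (i0 hn) (i1 hn) ⊔ UL (i0 hn) := by
  apply le_antisymm
  · intro A hA
    have h := hA
    obtain ⟨h0, ⟨c, h1⟩, h2⟩ := hA
    rw [sub_eq_iff_eq_add] at h1
    have hd : Dj (i0 hn) (neg (i1 hn)) := dj_neg_right.2 (d01 hn)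
    have g : sx (i0 hn) (neg (i1 hn)) c ∈ UL (i0 hn) := by
      rw [← uu_be hd]
      refine uu_mem_UL ?_ 0
      rw [Pi.smul_apply, be_apply, if_neg fun e => (d01 hn).1 (OddHalf.SpN.neg_inj.1 e), smul_zero]
    have g' := UL_le_QSL (d01 hn) g
    set x := sx (i0 hn) (neg (i1 hn)) c with hx
    have g1 : x * A ∈ QS (i0 hn) (i1 hn) := by
      have g2 := mul_mem g' h
      refine ⟨g2.1, ?_, g2.2.2⟩
      have h3 : be n F (i1 hn) (neg (i0 hn)) = (0 : F) := (InE.right.prp (d01 hn)).1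
      have h4 : be n F (i1 hn) (i1 hn) = (1 : F) := by rw [be_apply, if_pos rfl]
      rw [rmul, h1, radd, rsmul, g.1, hx, rho_sx hd, neg_neg, h3, h4, mul_zero, zero_smul, add_zero, mul_one]
      ext k
      simp only [Pi.add_apply, Pi.smul_apply, smul_eq_mul]
      linear_combination (c * be n F (i0 hn) k) * (two0 : (2 : F) = 0)
    have e : A = x⁻¹ * (x * A) := by group
    rw [e]
    exact mul_mem (inv_mem (Subgroup.mem_sup_right g)) (Subgroup.mem_sup_left g1)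
  · exact sup_le QS_le_QSL (UL_le_QSL (d01 hn))

/-- a torus element -/
noncomputable def tor (hn : 3 ≤ n) (l0 l1 : Fˣ) : Sy n F :=
  sh (Function.update (Function.update (1 : Fin n → Fˣ) (c1 hn) l1) (c0 hn) l0)

theorem conj_zz_tor (l0 l1 : Fˣ) (a b : F) :
    tor hn l0 l1 * zz hn a b * (tor hn l0 l1)⁻¹ = zz hn (l0 * l1 * a) (l0 ^ 2 * b) := by
  have e0 : ev (Function.update (Function.update (1 : Fin n → Fˣ) (c1 hn) l1) (c0 hn) l0) (i0 hn) = l0 := by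
    show Function.update (Function.update (1 : Fin n → Fˣ) (c1 hn) l1) (c0 hn) l0 (c0 hn) = l0
    rw [Function.update_self]
  have e1 : ev (Function.update (Function.update (1 : Fin n → Fˣ) (c1 hn) l1) (c0 hn) l0) (i1 hn) = l1 := by
    show Function.update (Function.update (1 : Fin n → Fˣ) (c1 hn) l1) (c0 hn) l0 (c1 hn) = l1
    rw [Function.update_of_ne (c01 hn).symm, Function.update_self]
  have e : tor hn l0 l1 * (sx (i0 hn) (i1 hn) a * sy (i0 hn) b) * (tor hn l0 l1)⁻¹ =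
      (tor hn l0 l1 * sx (i0 hn) (i1 hn) a * (tor hn l0 l1)⁻¹) *
        (tor hn l0 l1 * sy (i0 hn) b * (tor hn l0 l1)⁻¹) := by group
  rw [zz_eq, e, tor, sh_sx, sh_sy, e0, e1]
  rfl

theorem typ_zz {Z : Subgroup (Sy n F)} {a0 b0 : F} (ha0 : a0 ≠ 0) (hb0 : b0 ≠ 0) (h1 : zz hn a0 0 ∈ Z)
    (h2 : zz hn 0 b0 ∈ Z) (a b : F) : ∃ g : Sy n F, g * zz hn a b * g⁻¹ ∈ Z := by
  have h3 : zz hn a0 b0 ∈ Z := by
    have := mul_mem h1 h2
    rwa [zz_mul, add_zero, zero_add] at this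
  by_cases hb : b = 0
  · subst hb
    by_cases ha : a = 0
    · subst ha
      exact ⟨1, by rw [zz_zero]; simp [one_mem]⟩
    · refine ⟨tor hn (Units.mk0 (a0 / a) (div_ne_zero ha0 ha)) 1, ?_⟩
      rw [conj_zz_tor, Units.val_mk0, Units.val_one, mul_one, mul_zero, div_mul_cancel₀ _ ha]
      exact h1
  · obtain ⟨l, hl⟩ := exists_sqrt (F := F) (b0 / b)
    have hl0 : l ≠ 0 := by
      rintro rfl
      rw [mul_zero] at hl
      exact div_ne_zero hb0 hb hl.symm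
    have e : l ^ 2 * b = b0 := by rw [pow_two, hl, div_mul_cancel₀ _ hb]
    by_cases ha : a = 0
    · subst ha
      refine ⟨tor hn (Units.mk0 l hl0) 1, ?_⟩
      rw [conj_zz_tor, Units.val_mk0, mul_zero, e]
      exact h2
    · refine ⟨tor hn (Units.mk0 l hl0) (Units.mk0 (a0 / (l * a)) (div_ne_zero ha0 (mul_ne_zero hl0 ha))), ?_⟩
      rw [conj_zz_tor, Units.val_mk0, Units.val_mk0, e]
      have e' : l * (a0 / (l * a)) * a = a0 := by field_simp
      rw [e']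
      exact h3

theorem typ_US {Z : Subgroup (Sy n F)} {a0 b0 : F} (ha0 : a0 ≠ 0) (hb0 : b0 ≠ 0) (h1 : zz hn a0 0 ∈ Z)
    (h2 : zz hn 0 b0 ∈ Z) (hA : A ∈ US (i0 hn) (i1 hn)) : ∃ g : Sy n F, g * A * g⁻¹ ∈ Z := by
  obtain ⟨a, b, c, rfl⟩ := exists_US (d01 hn) hA
  have key : ∀ a b c : F, a ≠ 0 → ∃ g : Sy n F,
      g * (sx (i0 hn) (i1 hn) c * sy (i0 hn) a * sy (i1 hn) b) * g⁻¹ ∈ Z := by
    intro a b c ha
    obtain ⟨s, hs⟩ := exists_sqrt (F := F) (b / a)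
    have hs' : a * s ^ 2 = b := by rw [pow_two, hs, mul_div_cancel₀ _ ha]
    obtain ⟨g, hg⟩ := typ_zz ha0 hb0 h1 h2 (c + a * s) a
    have hd := d01 hn
    have hd' : Dj (neg (i0 hn)) (i1 hn) := dj_neg_left.2 hd
    set x := sx (neg (i0 hn)) (i1 hn) s with hx
    have r1 : x⁻¹ * sy (i0 hn) a * x = sx (i0 hn) (i1 hn) (a * s) * sy (i1 hn) b * sy (i0 hn) a := by
      have h := sy_rel hd a s
      rw [hs', ← hx] at h
      have c1 : Commute (sx (i0 hn) (i1 hn) (a * s)) x := sx_comm' _ _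
      have c2 : Commute (sy (i1 hn) b) x := sy_sx_comm
        (fun e => hd.1 (OddHalf.SpN.neg_inj.1 e)) (fun e => (ne_neg (i1 hn)) e) _ _
      have c3 : Commute (sx (i0 hn) (i1 hn) (a * s) * sy (i1 hn) b) x := c1.mul_left c2
      calc x⁻¹ * sy (i0 hn) a * x = x⁻¹ * (sy (i0 hn) a * x) := by group
        _ = x⁻¹ * ((sx (i0 hn) (i1 hn) (a * s) * sy (i1 hn) b) * x * sy (i0 hn) a) := by rw [h]; group
        _ = x⁻¹ * (x * (sx (i0 hn) (i1 hn) (a * s) * sy (i1 hn) b) * sy (i0 hn) a) := by rw [c3.eq]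
        _ = _ := by group
    have r2 : x⁻¹ * sx (i0 hn) (i1 hn) c * x = sx (i0 hn) (i1 hn) c := by
      have c1 : Commute (sx (i0 hn) (i1 hn) c) x := sx_comm' _ _
      rw [mul_assoc, c1.eq]; group
    have r3 : x⁻¹ * sy (i1 hn) b * x = sy (i1 hn) b := by
      have c2 : Commute (sy (i1 hn) b) x := sy_sx_comm
        (fun e => hd.1 (OddHalf.SpN.neg_inj.1 e)) (fun e => (ne_neg (i1 hn)) e) _ _
      rw [mul_assoc, c2.eq]; group
    refine ⟨g * x⁻¹, ?_⟩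
    have e : g * x⁻¹ * (sx (i0 hn) (i1 hn) c * sy (i0 hn) a * sy (i1 hn) b) * (g * x⁻¹)⁻¹ =
        g * ((x⁻¹ * sx (i0 hn) (i1 hn) c * x) * (x⁻¹ * sy (i0 hn) a * x) * (x⁻¹ * sy (i1 hn) b * x)) * g⁻¹ := by
      group
    have c4 : Commute (sy (i1 hn) b) (sy (i0 hn) a) := sy_comm (fun e => hd.2 e) _ _
    have e2 : sx (i0 hn) (i1 hn) c * (sx (i0 hn) (i1 hn) (a * s) * sy (i1 hn) b * sy (i0 hn) a) * sy (i1 hn) b =
        zz hn (c + a * s) a := by
      rw [zz_eq, sx_add]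
      calc sx (i0 hn) (i1 hn) c * (sx (i0 hn) (i1 hn) (a * s) * sy (i1 hn) b * sy (i0 hn) a) * sy (i1 hn) b
          = sx (i0 hn) (i1 hn) c * sx (i0 hn) (i1 hn) (a * s) * (sy (i1 hn) b * sy (i0 hn) a) * sy (i1 hn) b := by
            group
        _ = sx (i0 hn) (i1 hn) c * sx (i0 hn) (i1 hn) (a * s) * (sy (i0 hn) a * sy (i1 hn) b) * sy (i1 hn) b := by
            rw [c4.eq]
        _ = sx (i0 hn) (i1 hn) c * sx (i0 hn) (i1 hn) (a * s) * sy (i0 hn) a * (sy (i1 hn) b * sy (i1 hn) b) := by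
            group
        _ = _ := by rw [sy_sq, mul_one]
    rw [e, r1, r2, r3, e2]
    exact hg
  by_cases ha : a = 0
  · by_cases hb : b = 0
    · rw [ha, hb, sy_zero, sy_zero, mul_one, mul_one, ← zz_eq0]
      exact typ_zz ha0 hb0 h1 h2 c 0
    · obtain ⟨g, hg⟩ := key b a c hb
      refine ⟨g * sw (w01 hn), ?_⟩
      have e : g * sw (w01 hn) * (sx (i0 hn) (i1 hn) c * sy (i0 hn) a * sy (i1 hn) b) * (g * sw (w01 hn))⁻¹ =
          g * ((sw (w01 hn) * sx (i0 hn) (i1 hn) c * (sw (w01 hn))⁻¹) *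
            ((sw (w01 hn) * sy (i0 hn) a * (sw (w01 hn))⁻¹) * (sw (w01 hn) * sy (i1 hn) b * (sw (w01 hn))⁻¹))) *
            g⁻¹ := by group
      have c4 : Commute (sy (i1 hn) a) (sy (i0 hn) b) := sy_comm (fun e => (d01 hn).2 e) _ _
      rw [e, sw_sx, sw_sy, sw_sy, w01_0, w01_1, sx_symm, c4.eq, ← mul_assoc (sx (i0 hn) (i1 hn) c)]
      exact hg
  · exact key a b c ha

/-- `U_l` : every element is conjugate into `U_s` -/
theorem typ_UL (hA : A ∈ UL (i0 hn)) : ∃ g : Sy n F, g * A * g⁻¹ ∈ US (i0 hn) (i1 hn) := by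
  obtain ⟨b, a, hb, rfl⟩ := exists_uu hA
  by_cases hL : InL (i0 hn) b
  · obtain ⟨c, rfl⟩ := hL
    refine ⟨1, ?_⟩
    have h := uu_add_p (p := i0 hn) (b := (0 : Ix n → F)) rfl c a
    rw [zero_add] at h
    rw [h, uu_zero, one_mul, inv_one, mul_one]
    exact sy_mem_US a
  · obtain ⟨k, hk, hk'⟩ : ∃ k, k ≠ i0 hn ∧ b k ≠ 0 := by
      by_contra hne
      push Not at hne
      apply hL
      refine ⟨b (i0 hn), ?_⟩
      ext k
      by_cases k0 : k = i0 hn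
      · subst k0; simp [be_apply]
      · rw [hne k k0]; simp [be_apply, k0]
    have hd : Dj k (i0 hn) := ⟨hk, fun e => hk' (by rw [e, hb])⟩
    obtain ⟨w, w0, wk⟩ : ∃ w : W n, w.1 (i0 hn) = i0 hn ∧ w.1 k = neg (i1 hn) := by
      by_cases k1 : k = neg (i1 hn)
      · exact ⟨1, rfl, k1⟩
      by_cases k2 : k = i1 hn
      · refine ⟨⟨sg (i1 hn), sg_mem _⟩, ?_, ?_⟩
        · exact Equiv.swap_apply_of_ne_of_ne (d01 hn).1 (d01 hn).2
        · rw [k2]; exact Equiv.swap_apply_left _ _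
      · have hd' : Dj k (neg (i1 hn)) := ⟨k1, by rw [neg_neg]; exact k2⟩
        exact ⟨⟨tr k (neg (i1 hn)), tr_mem hd'⟩, tr_ne hd.symm.1 (d01 hn).2 hd.symm.2
          (by rw [neg_neg]; exact (d01 hn).1), tr_left hd'⟩
    set b1 := rho n F (sw w) b with hb1
    have e1 : b1 (neg (i0 hn)) = 0 := by
      rw [hb1, rho_sw, W_inv_neg, (W_inv_eq w).2 w0.symm, hb]
    have e2 : b1 (neg (i1 hn)) ≠ 0 := by
      rw [hb1, rho_sw, (W_inv_eq w).2 wk.symm]
      exact hk'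
    set t : Sy n F := transv (b1 + be n F (i1 hn)) (b1 (neg (i1 hn)))⁻¹ with ht
    have h3 : be n F (i1 hn) (neg (i0 hn)) = (0 : F) := (InE.right.prp (d01 hn)).1
    have g1 : rho n F t (be n F (i0 hn)) = be n F (i0 hn) := by
      rw [ht, rho_transv, form_be', Pi.add_apply, e1, h3, add_zero, mul_zero, zero_smul, add_zero]
    have g2 : rho n F t b1 = be n F (i1 hn) := by
      rw [ht, rho_transv, sympForm_add_right, sympForm_self, form_be, zero_add, inv_mul_cancel₀ e2, one_smul]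
      ext m
      simp only [Pi.add_apply]
      linear_combination (b1 m) * (two0 : (2 : F) = 0)
    refine ⟨t * sw w, ?_⟩
    have e : t * sw w * uu (i0 hn) b a * (t * sw w)⁻¹ = t * (sw w * uu (i0 hn) b a * (sw w)⁻¹) * t⁻¹ := by group
    have e3 := uu_q (F := F) (d01 hn) 1 a
    rw [one_smul] at e3
    rw [e, conj_uu_lin (conj_be w0) hb, conj_uu_lin g1 e1, g2, e3]
    exact mul_mem (sx_mem_US (d01 hn) 1) (sy_mem_US a)

theorem typ_UL' {Z : Subgroup (Sy n F)} {a0 b0 : F} (ha0 : a0 ≠ 0) (hb0 : b0 ≠ 0) (h1 : zz hn a0 0 ∈ Z)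
    (h2 : zz hn 0 b0 ∈ Z) (hA : A ∈ UL (i0 hn)) : ∃ g : Sy n F, g * A * g⁻¹ ∈ Z := by
  obtain ⟨g, hg⟩ := typ_UL hA
  obtain ⟨g', hg'⟩ := typ_US ha0 hb0 h1 h2 hg
  refine ⟨g' * g, ?_⟩
  have e : g' * g * A * (g' * g)⁻¹ = g' * (g * A * g⁻¹) * g'⁻¹ := by group
  rwa [e]

end Cfsg.Agent.Omega.All.SpN
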