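import Cfsg.Agent.Omega.All.HOneDat
import Cfsg.Agent.Omega.All.SpN.Inner3

/-!
# THEOREM F1-h1, `Sp_2n(q)`: the side `s` in `G` (helper678)

`Hyp ι S` : `G₀ = ι(Sp_2n(F))`, `F` finite of characteristic 2, `C_G(G₀) = 1`, `S` a Sylow 2-subgroup of `G` in `N_G(G₀)`
with `S ∩ G₀ = ι(Up)`.

* `Hyp.side` : the structure `Side` for `X_s = ι(X_12)`, `Q_s`, `U_s`, `C = C_{G₀}(X_s)`;
* `Hyp.oZ` : `O₂(C_G(Ω₁(Z(S)))) = Q_s U_l` if `C_G(Ω₁(Z(S))) ≤ N_G(G₀)`;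
* `Hyp.typ_l`.
-/

set_option autoImplicit false
set_option linter.unusedSectionVars false

namespace Cfsg.Agent.Omega.All.SpN

open Cfsg Cfsg.Agent.ClassicalGeometry.SympBasic Cfsg.Agent.ClassicalGeometry.SympAutSemi
open Cfsg.Agent.OddHalf.SpN Cfsg.Agent.OddHalf.SpN.Out
open Subgroup Cfsg.Agent.ZN
open Cfsg.Agent.Omega.FrameNOFF (CZ)
open Cfsg.Agent.Omega.All.HOne
open Cfsg.Agent.MinSimple.VModule (le_o2 mem_zc zc_le o2_le o2_isPGroup le_normalizer_o2 le_centralizer_zc)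
open scoped Matrix commutatorElement

variable {n : ℕ} {F : Type*} [Field F] {G : Type*} [Group G]

/-- `S` normalises `X` -/
theorem le_norm {S X : Subgroup G} (h : ∀ g ∈ S, ∀ x ∈ X, g * x * g⁻¹ ∈ X) : S ≤ normalizer (X : Set G) := by
  intro g hg
  rw [mem_normalizer_iff]
  intro x
  refine ⟨h g hg x, fun hx => ?_⟩
  have h1 := h _ (inv_mem hg) _ hx
  have e : g⁻¹ * (g * x * g⁻¹) * g⁻¹⁻¹ = x := by group
  rwa [e] at h1

theorem el_of_sq {X : Subgroup G} (h : ∀ x ∈ X, x * x = 1) : IsElementaryAbelian 2 X := by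
  have hinv : ∀ x ∈ X, x⁻¹ = x := fun x hx => inv_eq_of_mul_eq_one_left (h x hx)
  refine ⟨⟨⟨fun x y => Subtype.ext ?_⟩⟩, fun x hx => by rw [pow_two]; exact h x hx⟩
  show (x : G) * y = y * x
  have h1 := h _ (mul_mem x.2 y.2)
  have h2 := hinv _ (mul_mem x.2 y.2)
  rw [mul_inv_rev, hinv _ x.2, hinv _ y.2] at h2
  exact h2.symm

theorem sh_be (lam : Fin n → Fˣ) (i : Ix n) : rho n F (sh lam) (be n F i) = (ev lam i : F) • be n F i := by
  ext m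
  rw [rho_sh, Pi.smul_apply, smul_eq_mul, be_apply]
  by_cases hm : m = i
  · subst hm; rfl
  · rw [if_neg hm, mul_zero, mul_zero]

/-- The hypotheses: `G₀ = ι(Sp_2n(F))`, `S` any 2-subgroup of `N_G(G₀)` with `S ∩ G₀ = ι(Up)`. -/
structure Hyp0 [Finite F] (ι : Sy n F →* G) (S : Subgroup G) : Prop where
  inj : Function.Injective ι
  cen : ∀ c : G, (∀ A, ι A * c = c * ι A) → c = 1
  pS : IsPGroup 2 S
  S_Y : S ≤ normalizer (ι.range : Set G)
  U_eq : S ⊓ ι.range = (Up n F).map ι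

/-- The hypotheses: `G₀ = ι(Sp_2n(F))`, `S` a maximal 2-subgroup of `G`. -/
structure Hyp [Finite F] (ι : Sy n F →* G) (S : Subgroup G) : Prop extends Hyp0 ι S where
  max : ∀ P : Subgroup G, IsPGroup 2 P → S ≤ P → P ≤ S

namespace Hyp0

variable [Finite F] [CharP F 2] {ι : Sy n F →* G} {S : Subgroup G} (H : Hyp0 ι S) {hn : 3 ≤ n}

include H

theorem iota_mem {A : Sy n F} : ι A ∈ S ↔ A ∈ Up n F := by
  constructor
  · intro h
    have h1 : ι A ∈ S ⊓ ι.range := ⟨h, A, rfl⟩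
    rw [H.U_eq] at h1
    obtain ⟨B, hB, e⟩ := h1
    rwa [← H.inj e]
  · intro h
    have h1 : ι A ∈ (Up n F).map ι := ⟨A, h, rfl⟩
    rw [← H.U_eq] at h1
    exact h1.1

theorem map_le {P : Subgroup (Sy n F)} (h : P ≤ Up n F) : P.map ι ≤ S := by
  rintro _ ⟨A, hA, rfl⟩
  exact H.iota_mem.2 (h hA)

theorem mem_map {P : Subgroup (Sy n F)} {A : Sy n F} : ι A ∈ P.map ι ↔ A ∈ P :=
  ⟨fun ⟨_, hB, e⟩ => H.inj e ▸ hB, fun h => ⟨A, h, rfl⟩⟩

/-- the elements of `N_G(G₀)` -/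
theorem acts (hn : 3 ≤ n) {g : G} (hg : g ∈ normalizer (ι.range : Set G)) :
    ∃ (s : Equiv.Perm (Ix n → F)) (φ : F ≃+* F), SI s φ ∧ Acts ι g s := exists_acts hn H.inj hg

/-- the elements of `S` are triangular -/
theorem tri (hn : 3 ≤ n) {g : G} (hg : g ∈ S) :
    ∃ (s : Equiv.Perm (Ix n → F)) (φ : F ≃+* F) (d : Fin n → F), SI s φ ∧ Acts ι g s ∧ Tri s d := by
  obtain ⟨s, φ, hs, ha⟩ := H.acts hn (H.S_Y hg)
  refine ⟨s, φ, _, hs, ha, tri_of_norm hs fun B hB => ?_⟩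
  have h1 : g⁻¹ * ι B * g ∈ S ⊓ ι.range := by
    refine Subgroup.mem_inf.2 ⟨mul_mem (mul_mem (inv_mem hg) (H.iota_mem.2 hB)) hg, ?_⟩
    exact (mem_normalizer_iff''.1 (H.S_Y hg) (ι B)).1 ⟨B, rfl⟩
  rw [H.U_eq] at h1
  obtain ⟨A, hA, e⟩ := h1
  refine ⟨A, hA, ha.rho_eq H.inj ?_⟩
  rw [e]; group

omit H in
theorem conj_map {g : G} {s : Equiv.Perm (Ix n → F)} {φ : F ≃+* F} (hs : SI s φ) (ha : Acts ι g s)
    {P : Subgroup (Sy n F)} (h : ∀ A ∈ P, ∀ B, rho n F B = s * rho n F A * s⁻¹ → B ∈ P) {x : G} (hx : x ∈ P.map ι) :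
    g * x * g⁻¹ ∈ P.map ι := by
  obtain ⟨A, hA, rfl⟩ := hx
  obtain ⟨B, hB⟩ := hs.exists_conj A
  exact ⟨B, h A hA B hB, (ha.eq hB).symm⟩

/-- `S` normalises the image of a subgroup invariant under triangular semi-isometries -/
theorem S_norm (hn : 3 ≤ n) {P : Subgroup (Sy n F)} (h : ∀ (s : Equiv.Perm (Ix n → F)) (φ : F ≃+* F) (d : Fin n → F),
    SI s φ → Tri s d → ∀ A ∈ P, ∀ B, rho n F B = s * rho n F A * s⁻¹ → B ∈ P) :
    S ≤ normalizer ((P.map ι : Subgroup G) : Set G) := by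
  refine le_norm fun g hg x hx => ?_
  obtain ⟨s, φ, d, hs, ha, ht⟩ := H.tri hn hg
  exact conj_map hs ha (h s φ d hs ht) hx

theorem S_X (hn : 3 ≤ n) : S ≤ normalizer (((X12 hn).map ι : Subgroup G) : Set G) := by
  refine H.S_norm hn fun s φ d hs ht A hA B hB => ?_
  obtain ⟨a, rfl⟩ := hA
  have h := Tri.conj_zz hn hs ht a 0
  rw [← hB, map_zero, mul_zero] at h
  exact ⟨_, (rho_injective h).symm⟩

theorem S_Y1 (hn : 3 ≤ n) : S ≤ normalizer (((Y1 hn).map ι : Subgroup G) : Set G) := by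
  refine H.S_norm hn fun s φ d hs ht A hA B hB => ?_
  obtain ⟨a, rfl⟩ := hA
  have h := Tri.conj_zz hn hs ht 0 a
  rw [← hB, map_zero, mul_zero] at h
  exact ⟨_, (rho_injective h).symm⟩

theorem S_UL (hn : 3 ≤ n) : S ≤ normalizer (((UL (i0 hn)).map ι : Subgroup G) : Set G) :=
  H.S_norm hn fun _ _ _ hs ht _ hA _ hB => conj_UL hs (Tri.fixL hn hs ht) hA hB

/-- `C = C_{G₀}(X_s)` -/
theorem C_eq (hn : 3 ≤ n) : (C0 hn).map ι = ι.range ⊓ centralizer (((X12 hn).map ι : Subgroup G) : Set G) := by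
  apply le_antisymm
  · rintro _ ⟨A, hA, rfl⟩
    refine ⟨⟨A, rfl⟩, mem_centralizer_iff.2 ?_⟩
    rintro _ ⟨_, ⟨a, rfl⟩, rfl⟩
    rw [← map_mul, ← map_mul, (mem_C0.1 hA a).eq]
  · rintro _ ⟨⟨A, rfl⟩, h⟩
    refine ⟨A, mem_C0.2 fun a => H.inj ?_, rfl⟩
    rw [map_mul, map_mul]
    exact (mem_centralizer_iff.1 h _ ⟨_, ⟨a, rfl⟩, rfl⟩).symm

theorem E_eq (hn : 3 ≤ n) : (E3 hn).map ι = ι.range ⊓ centralizer (((Zz hn).map ι : Subgroup G) : Set G) := by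
  apply le_antisymm
  · rintro _ ⟨A, hA, rfl⟩
    refine ⟨⟨A, rfl⟩, mem_centralizer_iff.2 ?_⟩
    rintro _ ⟨_, ⟨a, b, rfl⟩, rfl⟩
    rw [← map_mul, ← map_mul, (mem_E3.1 hA a b).eq]
  · rintro _ ⟨⟨A, rfl⟩, h⟩
    refine ⟨A, mem_E3.2 fun a b => H.inj ?_, rfl⟩
    rw [map_mul, map_mul]
    exact (mem_centralizer_iff.1 h _ ⟨_, ⟨a, b, rfl⟩, rfl⟩).symm

theorem S_C (hn : 3 ≤ n) : S ≤ normalizer (((C0 hn).map ι : Subgroup G) : Set G) := by
  rw [H.C_eq hn]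
  refine le_norm fun g hg x hx => ⟨(mem_normalizer_iff.1 (H.S_Y hg) x).1 hx.1, mem_centralizer_iff.2 fun y hy => ?_⟩
  have h1 := (mem_normalizer_iff''.1 (H.S_X hn hg) y).1 hy
  have h2 := mem_centralizer_iff.1 hx.2 _ h1
  calc y * (g * x * g⁻¹) = g * (g⁻¹ * y * g * x) * g⁻¹ := by group
    _ = g * (x * (g⁻¹ * y * g)) * g⁻¹ := by rw [h2]
    _ = _ := by group

/-- transfer of `Z(P)` -/
theorem map_cen (P : Subgroup (Sy n F)) :
    (P ⊓ centralizer (P : Set (Sy n F))).map ι = P.map ι ⊓ centralizer ((P.map ι : Subgroup G) : Set G) := by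
  apply le_antisymm
  · rintro _ ⟨A, ⟨hA, hA'⟩, rfl⟩
    refine ⟨⟨A, hA, rfl⟩, mem_centralizer_iff.2 ?_⟩
    rintro _ ⟨B, hB, rfl⟩
    rw [← map_mul, ← map_mul, mem_centralizer_iff.1 hA' B hB]
  · rintro _ ⟨⟨A, hA, rfl⟩, h⟩
    refine ⟨A, ⟨hA, mem_centralizer_iff.2 fun B hB => H.inj ?_⟩, rfl⟩
    rw [map_mul, map_mul]
    exact mem_centralizer_iff.1 h _ ⟨B, hB, rfl⟩

omit H in
theorem map_comap {T : Subgroup G} (h : T ≤ ι.range) : (T.comap ι).map ι = T := by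
  rw [Subgroup.map_comap_eq, inf_eq_right.2 h]

omit H in
theorem norm_comap {T : Subgroup G} {P : Subgroup (Sy n F)} (h : P.map ι ≤ normalizer (T : Set G)) :
    P ≤ normalizer ((T.comap ι : Subgroup (Sy n F)) : Set (Sy n F)) := by
  refine le_norm fun A hA B hB => ?_
  rw [mem_comap] at hB ⊢
  rw [map_mul, map_mul, map_inv]
  exact (mem_normalizer_iff.1 (h ⟨A, hA, rfl⟩) _).1 hB

theorem Q_max (hn : 3 ≤ n) (T : Subgroup G) (hT : IsPGroup 2 T) (hC : T ≤ (C0 hn).map ι)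
    (hn' : (C0 hn).map ι ≤ normalizer (T : Set G)) : T ≤ (QS (i0 hn) (i1 hn)).map ι := by
  have h1 : IsPGroup 2 (T.comap ι) := hT.comap_of_injective ι H.inj
  have h2 := max_QS' (hn := hn) h1 (norm_comap hn')
  rw [← map_comap (ι := ι) (T := T) (hC.trans (map_le_range _ _))]
  exact Subgroup.map_mono h2

/-- an element acting linearly -/
theorem exists_iota {g : G} {s : Equiv.Perm (Ix n → F)} (hs : SI s 1) (ha : Acts ι g s) :
    ∃ A : Sy n F, g = ι A ∧ rho n F A = s := by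
  obtain ⟨A, hA⟩ := hs.exists_rho
  refine ⟨A, ?_, hA⟩
  have h1 : (ι A)⁻¹ * g = 1 := by
    apply H.cen
    intro B
    obtain ⟨C, hC, hC'⟩ := ha B
    rw [← hA] at hC'
    have e : C = A * B * A⁻¹ := rho_injective (by rw [hC', map_mul, map_mul, map_inv])
    rw [e, map_mul, map_mul, map_inv] at hC
    have h2 : g * ι B = ι A * ι B * (ι A)⁻¹ * g := by rw [← hC]; group
    calc ι B * ((ι A)⁻¹ * g) = (ι A)⁻¹ * (ι A * ι B * (ι A)⁻¹ * g) := by group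
      _ = (ι A)⁻¹ * g * ι B := by rw [← h2]; group
  calc g = ι A * ((ι A)⁻¹ * g) := by group
    _ = ι A := by rw [h1, mul_one]

/-- no field automorphisms on the side `s` -/
theorem fld (hn : 3 ≤ n) {t : G} (ht : t ∈ S)
    (hc : ∀ c ∈ (C0 hn).map ι, t * c * t⁻¹ * c⁻¹ ∈ (QS (i0 hn) (i1 hn)).map ι) :
    t ∈ (QS (i0 hn) (i1 hn)).map ι := by
  obtain ⟨s, φ, d, hs, ha, htri⟩ := H.tri hn ht
  have hE := Tri.fixE hn hs htri
  -- conjugates
  have key : ∀ A ∈ C0 hn, ∀ B, rho n F B = s * rho n F A * s⁻¹ → B * A⁻¹ ∈ QS (i0 hn) (i1 hn) := by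
    intro A hA B hB
    have h1 := hc _ ⟨A, hA, rfl⟩
    rw [ha.eq hB, ← map_inv, ← map_mul] at h1
    exact H.mem_map.1 h1
  have hcomm : ∀ A ∈ C0 hn, ∀ x, InE (i0 hn) (i1 hn) x → rho n F A (s x) = s (rho n F A x) := by
    intro A hA x hx
    obtain ⟨B, hB⟩ := hs.exists_conj A
    have hQ := key A hA B hB
    have hfix : ∀ y, InE (i0 hn) (i1 hn) y → rho n F (B * A⁻¹) y = y := by
      rintro _ ⟨a, b, rfl⟩
      rw [radd, rsmul, rsmul, hQ.1, hQ.2.1]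
    have h2 := hfix _ ((C0_fixE hA).fwd _ (hE.fwd _ hx))
    rw [← rmul, inv_mul_cancel_right] at h2
    have h3 := conj_apply hB (s x)
    rw [perm_inv_apply_self] at h3
    rw [← h2, h3]
  have hx : ∀ a : F, sx (i0 hn) (neg (i1 hn)) a ∈ C0 hn := by
    intro a
    refine mem_C0.2 fun x => ?_
    rw [zz_eq0]
    have h := (sx_comm' (F := F) (i := i1 hn) (j := i0 hn) x a).symm
    rwa [sx_symm (neg (i1 hn)), sx_symm (i1 hn)] at h
  have hd : Dj (i0 hn) (neg (i1 hn)) := dj_neg_right.2 (d01 hn)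
  have g1 : be n F (i1 hn) (neg (i0 hn)) = (0 : F) := (InE.right.prp (d01 hn)).1
  have g2 : be n F (i1 hn) (i1 hn) = (1 : F) := by rw [be_apply, if_pos rfl]
  have g3 : be n F (i0 hn) (neg (i0 hn)) = (0 : F) := (InE.left.prp (d01 hn)).1
  have g4 : be n F (i0 hn) (i1 hn) = (0 : F) := by rw [be_apply, if_neg (d01 hn).1.symm]
  have e1 : ∀ a : F, rho n F (sx (i0 hn) (neg (i1 hn)) a) (be n F (i1 hn)) =
      be n F (i1 hn) + a • be n F (i0 hn) := by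
    intro a
    rw [rho_sx hd, neg_neg, g1, g2, mul_zero, zero_smul, add_zero, mul_one]
  have e0 : ∀ a : F, rho n F (sx (i0 hn) (neg (i1 hn)) a) (be n F (i0 hn)) = be n F (i0 hn) := by
    intro a
    rw [rho_sx hd, neg_neg, g3, g4, mul_zero, zero_smul, zero_smul, add_zero, add_zero]
  obtain ⟨μ, s1⟩ := Tri.e1 hn htri
  have s0 := Tri.e0 hn htri
  have hd0 : d (c0 hn) ≠ 0 := (Tri.inv hs htri).2 _
  have hφ : ∀ a, φ a * d (c0 hn) = d (c1 hn) * a := by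
    intro a
    have h1 := hcomm _ (hx a) _ InE.right
    rw [e1, s1, radd, rsmul, rsmul, e1, e0, hs.add, hs.smul, s1, s0] at h1
    have h2 := congrFun h1 (i0 hn)
    have g5 : be n F (i0 hn) (i0 hn) = (1 : F) := by rw [be_apply, if_pos rfl]
    have g6 : be n F (i1 hn) (i0 hn) = (0 : F) := by rw [be_apply, if_neg (d01 hn).1]
    simp only [Pi.add_apply, Pi.smul_apply, smul_eq_mul, g5, g6, mul_one, mul_zero, zero_add] at h2
    linear_combination -h2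
  have h01 : d (c0 hn) = d (c1 hn) := by
    have h1 := hφ 1
    rwa [map_one, one_mul, mul_one] at h1
  have hφ1 : φ = 1 := by
    ext a
    have h1 := hφ a
    rw [← h01, mul_comm] at h1
    exact mul_left_cancel₀ hd0 h1
  rw [hφ1] at hs
  obtain ⟨A, rfl, hA⟩ := H.exists_iota hs ha
  refine ⟨A, max_QS (H.iota_mem.1 ht) fun w hw => ?_, rfl⟩
  obtain ⟨B, hB⟩ := hs.exists_conj w⁻¹
  have h1 := key _ (inv_mem hw) B hB
  have e : B = A * w⁻¹ * A⁻¹ := rho_injective (by rw [hB, ← hA]; simp only [map_mul, map_inv])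
  rw [e, inv_inv] at h1
  have h2 := inv_mem (mul_mem (inv_mem (H.iota_mem.1 ht)) (QS_le_Up h1))
  have e2 : (A⁻¹ * (A * w⁻¹ * A⁻¹ * w))⁻¹ = w⁻¹ * A * w := by group
  rwa [e2] at h2

theorem irr (hn : 3 ≤ n) (T : Subgroup G) (hT : T ≤ (QS (i0 hn) (i1 hn)).map ι)
    (hC : (C0 hn).map ι ≤ normalizer (T : Set G))
    (hcen : (QS (i0 hn) (i1 hn)).map ι ⊓ centralizer (T : Set G) ≤ T) : T = (QS (i0 hn) (i1 hn)).map ι := by
  have hr : T ≤ ι.range := hT.trans (map_le_range _ _)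
  have h1 : T.comap ι ≤ QS (i0 hn) (i1 hn) := fun A hA => H.mem_map.1 (hT hA)
  have h2 := irr_QS (hn := hn) h1 (norm_comap hC) (by
    rintro A ⟨hA, hA'⟩
    refine hcen ⟨⟨A, hA, rfl⟩, mem_centralizer_iff.2 fun t ht => ?_⟩
    obtain ⟨B, rfl⟩ := hr ht
    rw [← map_mul, ← map_mul, mem_centralizer_iff.1 hA' B ht])
  rw [← map_comap hr, h2]

theorem range_le : ι.range ≤ normalizer (ι.range : Set G) := le_normalizer

theorem trans (hn : 3 ≤ n) {x x' : G} (hx : x ∈ (X12 hn).map ι) (hx' : x' ∈ (X12 hn).map ι) (h1 : x ≠ 1)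
    (h1' : x' ≠ 1) : ∃ y ∈ normalizer (ι.range : Set G), y ∈ normalizer (((X12 hn).map ι : Subgroup G) : Set G) ∧
      y ∈ normalizer (((QS (i0 hn) (i1 hn)).map ι : Subgroup G) : Set G) ∧ y * x * y⁻¹ = x' := by
  obtain ⟨_, ⟨a, rfl⟩, rfl⟩ := hx
  obtain ⟨_, ⟨a', rfl⟩, rfl⟩ := hx'
  have ha : a ≠ 0 := by
    rintro rfl
    exact h1 (by rw [zz_zero, map_one])
  have ha' : a' ≠ 0 := by
    rintro rfl
    exact h1' (by rw [zz_zero, map_one])
  set h := tor hn (Units.mk0 (a' / a) (div_ne_zero ha' ha)) 1 with hh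
  have hmul : h * zz hn a 0 * h⁻¹ = zz hn a' 0 := by
    rw [hh, conj_zz_tor, Units.val_mk0, Units.val_one, mul_one, mul_zero, div_mul_cancel₀ _ ha]
  refine ⟨ι h, H.range_le ⟨h, rfl⟩, ?_, ?_, by rw [← hmul, map_mul, map_mul, map_inv]⟩
  · have g : zpowers (ι h) ≤ normalizer (((X12 hn).map ι : Subgroup G) : Set G) := by
      refine le_norm ?_
      rintro _ ⟨k, rfl⟩ _ ⟨_, ⟨b, rfl⟩, rfl⟩
      simp only
      rw [← map_zpow, ← map_inv, ← map_mul, ← map_mul]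
      refine ⟨_, ?_, rfl⟩
      have hk : ∀ k : ℤ, h ^ k = tor hn (Units.mk0 (a' / a) (div_ne_zero ha' ha) ^ k) 1 := by
        intro k
        rw [hh, tor, tor, ← map_zpow]
        congr 1
        funext i
        rw [Pi.pow_apply]
        by_cases i0 : i = c0 hn
        · subst i0; rw [Function.update_self, Function.update_self]
        by_cases i1 : i = c1 hn
        · subst i1
          rw [Function.update_of_ne i0, Function.update_of_ne i0, Function.update_self, one_zpow]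
        · rw [Function.update_of_ne i0, Function.update_of_ne i0, Function.update_of_ne i1, Pi.one_apply, one_zpow]
      rw [hk, conj_zz_tor, mul_zero]
      exact ⟨_, rfl⟩
    exact g (mem_zpowers _)
  · have hC : ∀ k : ℤ, FixE (i0 hn) (i1 hn) (rho n F (h ^ k)) := by
      intro k
      have hbe : ∀ (k : ℤ) (i : Ix n), ∃ l : F, rho n F (h ^ k) (be n F i) = l • be n F i := by
        intro k i
        rw [hh, tor, ← map_zpow]
        exact ⟨_, sh_be _ i⟩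
      have hbe' : ∀ i : Ix n, ∃ l : F, (rho n F (h ^ k))⁻¹ (be n F i) = l • be n F i := by
        intro i
        rw [← map_inv, ← zpow_neg]
        exact hbe (-k) i
      obtain ⟨l0, e0⟩ := hbe k (i0 hn)
      obtain ⟨l1, e1⟩ := hbe k (i1 hn)
      obtain ⟨m0, f0⟩ := hbe' (i0 hn)
      obtain ⟨m1, f1⟩ := hbe' (i1 hn)
      exact fixE_of (SI.of_rho _) (by rw [e0]; exact InE.left.smul _) (by rw [e1]; exact InE.right.smul _)
        (by rw [f0]; exact InE.left.smul _) (by rw [f1]; exact InE.right.smul _)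
    have g : zpowers (ι h) ≤ normalizer (((QS (i0 hn) (i1 hn)).map ι : Subgroup G) : Set G) := by
      refine le_norm ?_
      rintro _ ⟨k, rfl⟩ _ ⟨A, hA, rfl⟩
      simp only
      rw [← map_zpow, ← map_inv, ← map_mul, ← map_mul]
      exact ⟨_, conj_QS (SI.of_rho _) (hC k) hA (by rw [map_mul, map_mul, map_inv]), rfl⟩
    exact g (mem_zpowers _)

omit H in
theorem map_el {P : Subgroup (Sy n F)} (h : ∀ A ∈ P, A * A = 1) : ∀ x ∈ P.map ι, x * x = 1 := by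
  rintro _ ⟨A, hA, rfl⟩
  rw [← map_mul, h A hA, map_one]

omit H in
theorem X12_sq : ∀ A ∈ (X12 hn : Subgroup (Sy n F)), A * A = 1 := fun _ hA => US_sq (X12_le_US hA)

omit H in
theorem Y1_sq : ∀ A ∈ (Y1 hn : Subgroup (Sy n F)), A * A = 1 := by
  rintro _ ⟨a, rfl⟩
  rw [zz_mul, CharTwo.add_self_eq_zero, CharTwo.add_self_eq_zero, zz_zero]

theorem X_ne (hn : 3 ≤ n) : (X12 hn).map ι ≠ ⊥ := by
  intro h
  have h1 : ι (zz hn (1 : F) 0) ∈ (⊥ : Subgroup G) := h ▸ ⟨_, ⟨1, rfl⟩, rfl⟩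
  rw [mem_bot, ← map_one ι] at h1
  exact one_ne_zero (zz_inj hn ((H.inj h1).trans (zz_zero hn).symm)).1

theorem Y1_ne (hn : 3 ≤ n) : (Y1 hn).map ι ≠ ⊥ := by
  intro h
  have h1 : ι (zz hn (0 : F) 1) ∈ (⊥ : Subgroup G) := h ▸ ⟨_, ⟨1, rfl⟩, rfl⟩
  rw [mem_bot, ← map_one ι] at h1
  exact one_ne_zero (zz_inj hn ((H.inj h1).trans (zz_zero hn).symm)).2

theorem Z_le (hn : 3 ≤ n) : (Zz hn).map ι ≤ S := H.map_le (Zz_le hn)

/-- `zc S` contains some `x_12(a)`, `y_1(b)` -/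
theorem exists_ab [Finite G] (hn : 3 ≤ n) : ∃ a0 b0 : F, a0 ≠ 0 ∧ b0 ≠ 0 ∧ ι (zz hn a0 0) ∈ zc S ∧ ι (zz hn 0 b0) ∈ zc S := by
  obtain ⟨z, hz, ⟨_, ⟨a, rfl⟩, rfl⟩, h1⟩ := exists_zc_mem H.pS ((Subgroup.map_mono (X12_le hn)).trans (H.Z_le hn))
    (H.S_X hn) (map_el (ι := ι) X12_sq) (H.X_ne hn)
  obtain ⟨z', hz', ⟨_, ⟨b, rfl⟩, rfl⟩, h1'⟩ := exists_zc_mem H.pS ((Subgroup.map_mono (Y1_le hn)).trans (H.Z_le hn))
    (H.S_Y1 hn) (map_el (ι := ι) Y1_sq) (H.Y1_ne hn)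
  refine ⟨a, b, ?_, ?_, hz, hz'⟩
  · rintro rfl
    exact h1 (by rw [zz_zero, map_one])
  · rintro rfl
    exact h1' (by rw [zz_zero, map_one])

theorem typ [Finite G] (hn : 3 ≤ n) {u : G} (hu : u ∈ (US (i0 hn) (i1 hn)).map ι) :
    ∃ y ∈ normalizer (ι.range : Set G), y * u * y⁻¹ ∈ zc S := by
  obtain ⟨a, b, ha, hb, hza, hzb⟩ := H.exists_ab hn
  obtain ⟨A, hA, rfl⟩ := hu
  obtain ⟨g, hg⟩ := typ_US (Z := (zc S).comap ι) ha hb hza hzb hA
  exact ⟨ι g, H.range_le ⟨g, rfl⟩, by rw [← map_inv, ← map_mul, ← map_mul]; exact hg⟩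

theorem typ_l [Finite G] (hn : 3 ≤ n) {u : G} (hu : u ∈ (UL (i0 hn)).map ι) :
    ∃ y ∈ normalizer (ι.range : Set G), y * u * y⁻¹ ∈ zc S := by
  obtain ⟨a, b, ha, hb, hza, hzb⟩ := H.exists_ab hn
  obtain ⟨A, hA, rfl⟩ := hu
  obtain ⟨g, hg⟩ := typ_UL' (Z := (zc S).comap ι) ha hb hza hzb hA
  exact ⟨ι g, H.range_le ⟨g, rfl⟩, by rw [← map_inv, ← map_mul, ← map_mul]; exact hg⟩

/-- the side `s` -/
theorem side [Finite G] (hn : 3 ≤ n) : Side S (normalizer (ι.range : Set G)) ((C0 hn).map ι) ((X12 hn).map ι)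
    ((QS (i0 hn) (i1 hn)).map ι) ((US (i0 hn) (i1 hn)).map ι) where
  X_el := el_of_sq (map_el X12_sq)
  X_ne := H.X_ne hn
  X_S := H.map_le ((X12_le hn).trans (Zz_le hn))
  S_X := H.S_X hn
  X_U := Subgroup.map_mono X12_le_US
  U_eq := by rw [US_eq, H.map_cen]
  U_el := el_of_sq (map_el fun _ h => US_sq h)
  Q_S := H.map_le QS_le_Up
  Q_C := Subgroup.map_mono QS_le_C0
  C_X := by rw [H.C_eq hn]; exact inf_le_right
  S_C := H.S_C hn
  Q_max := H.Q_max hn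
  fld := fun _ ht hc => H.fld hn ht hc
  irr := H.irr hn
  comm := by rw [← Subgroup.map_commutator, comm_QS]
  trans := fun _ hx _ hx' h1 h1' => H.trans hn hx hx' h1 h1'
  typ := fun _ hu => H.typ hn hu

end Hyp0

end Cfsg.Agent.Omega.All.SpN
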