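import Cfsg.Agent.Omega.All.SpN.Conj

/-!
# THEOREM F1-h1, `Sp_2n(q)`: facts inside `Sp_2n(F)` (helper678)

`C0 = C(X_12)`, `E3 = C(X_12 Y_1)`, `Q_s = QS`, `U_s = US`, `U_l = UL`, `Q_s U_l = QSL`.

* `max_QS`, `max_QSL` : an element of `Up`, all whose conjugates under `C0` (`E3`) are in `Up`, is in `Q_s` (`Q_s U_l`);
* `US_eq` : `U_s = Z(Q_s)`; `comm_QS` : `[Q_s, Q_s] = X_12`; `irr_QS`; `typ_US`, `typ_UL`.
-/

set_option autoImplicit false
set_option linter.unusedSectionVars false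

namespace Cfsg.Agent.Omega.All.SpN

open Cfsg Cfsg.Agent.ClassicalGeometry.SympBasic Cfsg.Agent.ClassicalGeometry.SympAutSemi
open Cfsg.Agent.OddHalf.SpN Cfsg.Agent.OddHalf.SpN.Out
open scoped Matrix commutatorElement

variable {n : ℕ} {F : Type*} [Field F] [CharP F 2]

section defs

variable (hn : 3 ≤ n)

/-- `C(X_12)` -/
noncomputable def C0 : Subgroup (Sy n F) := Subgroup.centralizer ((X12 hn : Subgroup (Sy n F)) : Set (Sy n F))

/-- `C(X_12 Y_1)` -/
noncomputable def E3 : Subgroup (Sy n F) := Subgroup.centralizer ((Zz hn : Subgroup (Sy n F)) : Set (Sy n F))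

variable {hn} {A : Sy n F}

theorem mem_C0 : A ∈ C0 hn ↔ ∀ a, Commute A (zz hn a 0) := by
  rw [C0, Subgroup.mem_centralizer_iff]
  constructor
  · exact fun h a => (h _ ⟨a, rfl⟩).symm
  · rintro h _ ⟨a, rfl⟩
    exact (h a).symm

theorem mem_E3 : A ∈ E3 hn ↔ ∀ a b, Commute A (zz hn a b) := by
  rw [E3, Subgroup.mem_centralizer_iff]
  constructor
  · exact fun h a b => (h _ ⟨a, b, rfl⟩).symm
  · rintro h _ ⟨a, b, rfl⟩
    exact (h a b).symm

theorem E3_le_C0 : (E3 hn : Subgroup (Sy n F)) ≤ C0 hn :=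
  Subgroup.centralizer_le (X12_le hn)

theorem C0_fixE (hA : A ∈ C0 hn) : FixE (i0 hn) (i1 hn) (rho n F A) := by
  refine fixE_of_comm hn (SI.of_rho A) one_ne_zero ?_
  rw [← map_mul, ← map_mul, (mem_C0.1 hA 1).eq]

theorem Up_le_E3 [Finite F] : Up n F ≤ E3 hn := fun _ hA => mem_E3.2 fun a b => comm_Z hn hA a b

theorem Up_le_C0 [Finite F] : Up n F ≤ C0 hn := Up_le_E3.trans E3_le_C0

theorem zz_eq (a b : F) : zz hn a b = sx (i0 hn) (i1 hn) a * sy (i0 hn) b := rfl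

theorem zz_eq0 (a : F) : zz hn a 0 = sx (i0 hn) (i1 hn) a := by rw [zz_eq, sy_zero, mul_one]

theorem commute_iff_conj {H : Type*} [Group H] {a b : H} : Commute a b ↔ a * b * a⁻¹ = b := by
  rw [mul_inv_eq_iff_eq_mul]; exact Iff.rfl

/-- Weyl elements fixing `1`, `2` -/
theorem sw_mem_E3 {w : W n} (h0 : w.1 (i0 hn) = i0 hn) (h1 : w.1 (i1 hn) = i1 hn) : sw (F := F) w ∈ E3 hn := by
  refine mem_E3.2 fun a b => commute_iff_conj.2 ?_
  have e : sw (F := F) w * (sx (i0 hn) (i1 hn) a * sy (i0 hn) b) * (sw w)⁻¹ =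
      (sw w * sx (i0 hn) (i1 hn) a * (sw w)⁻¹) * (sw w * sy (i0 hn) b * (sw w)⁻¹) := by group
  rw [zz_eq, e, sw_sx, sw_sy, h0, h1]

/-- the Weyl element exchanging `1`, `2` -/
noncomputable def w01 (hn : 3 ≤ n) : W n := ⟨tr (i0 hn) (i1 hn), tr_mem (d01 hn)⟩

theorem tr_left {i j : Ix n} (h : Dj i j) : tr i j i = j := by
  rw [tr, Equiv.Perm.mul_apply, Equiv.swap_apply_of_ne_of_ne (ne_neg i) h.2, Equiv.swap_apply_left]

theorem tr_right {i j : Ix n} (h : Dj i j) : tr i j j = i := by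
  have h2 : j ≠ neg i := fun e => h.2 (by rw [e, neg_neg])
  rw [tr, Equiv.Perm.mul_apply, Equiv.swap_apply_of_ne_of_ne h2 (ne_neg j), Equiv.swap_apply_right]

theorem tr_ne {i j k : Ix n} (h1 : k ≠ i) (h2 : k ≠ j) (h3 : k ≠ neg i) (h4 : k ≠ neg j) : tr i j k = k := by
  rw [tr, Equiv.Perm.mul_apply, Equiv.swap_apply_of_ne_of_ne h3 h4, Equiv.swap_apply_of_ne_of_ne h1 h2]

theorem w01_0 : (w01 hn).1 (i0 hn) = i1 hn := tr_left (d01 hn)

theorem w01_1 : (w01 hn).1 (i1 hn) = i0 hn := tr_right (d01 hn)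

theorem w01_mem : sw (F := F) (w01 hn) ∈ C0 hn := by
  refine mem_C0.2 fun a => commute_iff_conj.2 ?_
  rw [zz_eq0, sw_sx, w01_0, w01_1, sx_symm]

/-- the Weyl elements moving `3` -/
theorem exists_w {k : Ix n} (h0 : Dj k (i0 hn)) (h1 : Dj k (i1 hn)) :
    ∃ w : W n, w.1 (i0 hn) = i0 hn ∧ w.1 (i1 hn) = i1 hn ∧ w.1 (i2 hn) = k := by
  by_cases k1 : k = i2 hn
  · exact ⟨1, rfl, rfl, k1.symm⟩
  by_cases k2 : k = neg (i2 hn)
  · refine ⟨⟨sg (i2 hn), sg_mem _⟩, ?_, ?_, ?_⟩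
    · exact Equiv.swap_apply_of_ne_of_ne (d02 hn).1 (d02 hn).2
    · exact Equiv.swap_apply_of_ne_of_ne (d12 hn).1 (d12 hn).2
    · rw [k2]; exact Equiv.swap_apply_left _ _
  · have hd : Dj k (i2 hn) := ⟨k1, k2⟩
    refine ⟨⟨tr k (i2 hn), tr_mem hd⟩, tr_ne h0.1.symm (d02 hn).1 h0.symm.2 (d02 hn).2,
      tr_ne h1.1.symm (d12 hn).1 h1.symm.2 (d12 hn).2, tr_right hd⟩

end defs

section le

variable {hn : 3 ≤ n} [Finite F] {A B : Sy n F}

theorem QSL_le_Up : (QSL (i0 hn) (i1 hn) : Subgroup (Sy n F)) ≤ Up n F := by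
  intro A hA
  obtain ⟨h0, ⟨c, h1⟩, h2⟩ := hA
  rw [sub_eq_iff_eq_add] at h1
  have key : ∀ i : Fin n, ∃ a b : F, (i.1 < 1 → a = 0) ∧ (i.1 < 2 → b = 0) ∧
      rho n F A (be n F (Sum.inl i)) = be n F (Sum.inl i) + (a • be n F (i0 hn) + b • be n F (i1 hn)) := by
    intro i
    by_cases e0 : i = c0 hn
    · refine ⟨0, 0, fun _ => rfl, fun _ => rfl, ?_⟩
      rw [e0]
      have h3 : rho n F A (be n F (Sum.inl (c0 hn))) = be n F (Sum.inl (c0 hn)) := h0
      rw [h3]; simp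
    by_cases e1 : i = c1 hn
    · refine ⟨c, 0, fun h => ?_, fun _ => rfl, ?_⟩
      · rw [e1] at h; simp [c1] at h
      · rw [e1]
        have h3 : rho n F A (be n F (Sum.inl (c1 hn))) = c • be n F (i0 hn) + be n F (Sum.inl (c1 hn)) := h1
        rw [h3]; simp [add_comm]
    · have a0 : i.1 ≠ 0 := fun e => e0 (Fin.ext e)
      have a1 : i.1 ≠ 1 := fun e => e1 (Fin.ext e)
      obtain ⟨a, b, e⟩ := h2 (be n F (Sum.inl i)) ⟨by simp [i0, be_apply], by simp [i1, be_apply]⟩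
      rw [sub_eq_iff_eq_add] at e
      exact ⟨a, b, fun h => by omega, fun h => by omega, by rw [e, add_comm]⟩
  refine ⟨fun i => ?_, fun i j hij => ?_, fun i j => ?_⟩
  · obtain ⟨a, b, ha, hb, e⟩ := key i
    rw [e]
    simp only [Pi.add_apply, Pi.smul_apply, smul_eq_mul, be_apply, if_true, Pi.one_apply, i0, i1, Sum.inl.injEq]
    by_cases e0 : i = c0 hn
    · have h01 := c01 hn
      subst e0
      rw [ha (by simp [c0])]
      simp [h01]
    by_cases e1 : i = c1 hn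
    · subst e1
      rw [hb (by simp [c1])]
      simp [(c01 hn).symm]
    · simp [e0, e1]
  · obtain ⟨a, b, ha, hb, e⟩ := key i
    rw [e]
    have hij' : i.1 < j.1 := hij
    simp only [Pi.add_apply, Pi.smul_apply, smul_eq_mul, be_apply, i0, i1, Sum.inl.injEq]
    have h1 : j ≠ i := fun e => by rw [e] at hij'; omega
    have h2 : j ≠ c0 hn := fun e => by rw [e] at hij'; simp [c0] at hij'
    by_cases e1 : j = c1 hn
    · rw [hb (by rw [e1] at hij'; simp [c1] at hij'; omega)]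
      simp [h1, h2]
    · simp [h1, h2, e1]
  · obtain ⟨a, b, ha, hb, e⟩ := key i
    rw [e]
    simp [be_apply, i0, i1]

theorem QS_le_Up : (QS (i0 hn) (i1 hn) : Subgroup (Sy n F)) ≤ Up n F := QS_le_QSL.trans QSL_le_Up

theorem US_le_Up : (US (i0 hn) (i1 hn) : Subgroup (Sy n F)) ≤ Up n F := (US_le_QS (d01 hn)).trans QS_le_Up

theorem UL_le_Up : (UL (i0 hn) : Subgroup (Sy n F)) ≤ Up n F := (UL_le_QSL (d01 hn)).trans QSL_le_Up

theorem QS_le_C0 : (QS (i0 hn) (i1 hn) : Subgroup (Sy n F)) ≤ C0 hn := QS_le_Up.trans Up_le_C0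

theorem X12_le_US : (X12 hn : Subgroup (Sy n F)) ≤ US (i0 hn) (i1 hn) := by
  rintro _ ⟨a, rfl⟩
  rw [zz_eq0]
  exact sx_mem_US (d01 hn) a

theorem X12_le_UL : (X12 hn : Subgroup (Sy n F)) ≤ UL (i0 hn) := by
  rintro _ ⟨a, rfl⟩
  rw [zz_eq0, ← uu_be (d01 hn)]
  exact uu_mem_UL ((InE.right.prp (d01 hn)).smul a).1 _

/-! ### maximality -/

theorem comb (h0 : ∀ k, Dj k (i0 hn) → Dj k (i1 hn) → InE (i0 hn) (i1 hn) (rho n F A (be n F k) - be n F k))
    (h1 : rho n F A (be n F (i0 hn)) = be n F (i0 hn))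
    (h2 : InL (i0 hn) (rho n F A (be n F (i1 hn)) - be n F (i1 hn))) {v : Ix n → F} (hv : Prp (i0 hn) (i1 hn) v) :
    InE (i0 hn) (i1 hn) (rho n F A v - v) := by
  have e : rho n F A v - v = ∑ k, v k • (rho n F A (be n F k) - be n F k) := by
    have h3 : rho n F A v = ∑ k, v k • rho n F A (be n F k) := by
      conv_lhs => rw [expand v]
      rw [(SI.of_rho A).sum]
      exact Finset.sum_congr rfl fun k _ => rsmul _ _ _
    conv_lhs => rw [h3, expand v]
    rw [← Finset.sum_sub_distrib]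
    refine Finset.sum_congr rfl fun k _ => ?_
    rw [← expand v, smul_sub]
  rw [e]
  have key : ∀ k, InE (i0 hn) (i1 hn) (v k • (rho n F A (be n F k) - be n F k)) := by
    intro k
    by_cases k0 : k = i0 hn
    · rw [k0, h1, sub_self, smul_zero]; exact InE.zero
    by_cases k1 : k = i1 hn
    · rw [k1]; exact h2.inE.smul _
    by_cases k2 : k = neg (i0 hn)
    · rw [k2, hv.1, zero_smul]; exact InE.zero
    by_cases k3 : k = neg (i1 hn)
    · rw [k3, hv.2, zero_smul]; exact InE.zero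
    exact (h0 k ⟨k0, k2⟩ ⟨k1, k3⟩).smul _
  let M : AddSubmonoid (Ix n → F) :=
    { carrier := {v | InE (i0 hn) (i1 hn) v}, zero_mem' := InE.zero, add_mem' := InE.add }
  exact M.sum_mem fun k _ => key k

theorem up_e0 (hA : A ∈ Up n F) : rho n F A (be n F (i0 hn)) = be n F (i0 hn) := by
  have h := Tri.e0 hn hA
  rwa [Pi.one_apply, one_smul] at h

theorem up_e1 (hA : A ∈ Up n F) : InL (i0 hn) (rho n F A (be n F (i1 hn)) - be n F (i1 hn)) := by
  obtain ⟨μ, h⟩ := Tri.e1 hn hA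
  rw [Pi.one_apply, one_smul] at h
  exact ⟨μ, by rw [h]; abel⟩

theorem up_e2 (hA : A ∈ Up n F) : InE (i0 hn) (i1 hn) (rho n F A (be n F (i2 hn)) - be n F (i2 hn)) := by
  have h := Tri.e2 hn hA
  rwa [Pi.one_apply, one_smul] at h

theorem conj_be {w : W n} {k l : Ix n} (h : w.1 k = l) : rho n F (sw (F := F) w) (be n F k) = be n F l := by
  ext m
  rw [rho_sw, be_apply, be_apply]
  congr 1
  rw [W_inv_eq, h]

/-- (`Q_s U_l`) -/
theorem max_QSL (hA : A ∈ Up n F) (h : ∀ w ∈ E3 hn, w⁻¹ * A * w ∈ Up n F) : A ∈ QSL (i0 hn) (i1 hn) := by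
  refine ⟨up_e0 hA, up_e1 hA, fun v hv => comb (fun k hk0 hk1 => ?_) (up_e0 hA) (up_e1 hA) hv⟩
  obtain ⟨w, w0, w1, w2⟩ := exists_w hk0 hk1
  have hw := sw_mem_E3 (F := F) w0 w1
  have h1 := C0_fixE (E3_le_C0 hw)
  have h2 := h1.fwd _ (up_e2 (h _ hw))
  rw [rsub, conj_be w2, ← rmul] at h2
  have e : sw w * ((sw w)⁻¹ * A * sw w) = A * sw w := by group
  rwa [e, rmul, conj_be w2] at h2

/-- (`Q_s`) -/
theorem max_QS (hA : A ∈ Up n F) (h : ∀ w ∈ C0 hn, w⁻¹ * A * w ∈ Up n F) : A ∈ QS (i0 hn) (i1 hn) := by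
  obtain ⟨h0, h1, h2⟩ := max_QSL hA fun w hw => h w (E3_le_C0 hw)
  refine ⟨h0, ?_, h2⟩
  have h3 := up_e0 (hn := hn) (h _ w01_mem)
  have h4 := congrArg (rho n F (sw (w01 hn))) h3
  have e : sw (w01 hn) * ((sw (w01 hn))⁻¹ * A * sw (w01 hn)) = A * sw (w01 hn) := by group
  rwa [← rmul, e, rmul, conj_be w01_0] at h4

/-- a 2-subgroup normalised by `E3` is in `Q_s U_l` if it is in `Up` -/
theorem max_QS' {T : Subgroup (Sy n F)} (hT : IsPGroup 2 T) (hn' : C0 hn ≤ Subgroup.normalizer (T : Set (Sy n F))) :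
    T ≤ QS (i0 hn) (i1 hn) := by
  have h1 : T ≤ Up n F := by
    have h2 : Up n F ≤ Subgroup.normalizer (T : Set (Sy n F)) := Up_le_C0.trans hn'
    have h3 : IsPGroup 2 (T ⊔ Up n F : Subgroup (Sy n F)) := by
      have h4 := IsPGroup.to_sup_of_normal_left' hT isPGroup_Up h2
      exact h4
    exact le_sup_left.trans (Up_max h3 le_sup_right)
  intro A hA
  refine max_QS (h1 hA) fun w hw => h1 ?_
  have h2 := (Subgroup.mem_normalizer_iff.1 (inv_mem (hn' hw)) A).1 hA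
  rwa [inv_inv] at h2

/-! ### the center and the commutator subgroup of `Q_s` -/

omit [Finite F] in
theorem comm_sy_of_fix {i : Ix n} (h : rho n F B (be n F i) = be n F i) (a : F) : Commute B (sy i a) := by
  rw [commute_iff_conj]
  apply rho_injective
  rw [map_mul, map_mul, map_inv, sy, (SI.of_rho B).conj_transv, h]
  rfl

theorem comm_US_QS (hA : A ∈ US (i0 hn) (i1 hn)) (hB : B ∈ QS (i0 hn) (i1 hn)) : Commute B A := by
  obtain ⟨a, b, c, rfl⟩ := exists_US (d01 hn) hA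
  have h1 := mem_C0.1 (QS_le_C0 hB) c
  rw [zz_eq0] at h1
  exact (h1.mul_right (comm_sy_of_fix hB.1 a)).mul_right (comm_sy_of_fix hB.2.1 b)

omit [Finite F] in
theorem conj_uu_lin {p : Ix n} {b : Ix n → F} (hA : rho n F A (be n F p) = be n F p) (hb : b (neg p) = 0) (a : F) :
    A * uu p b a * A⁻¹ = uu p (rho n F A b) a := by
  apply rho_injective
  have h := conj_uu (SI.of_rho A) (l := 1) (by rw [hA, one_smul]) hb a
  rw [map_mul, map_mul, map_inv, ← h, one_smul, one_pow, one_mul]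
  rfl

omit [Finite F] in
theorem inL_inL {p q : Ix n} (hd : p ≠ q) {v : Ix n → F} (h : InL p v) (h' : InL q v) : v = 0 := by
  obtain ⟨a, rfl⟩ := h
  obtain ⟨b, e⟩ := h'
  have h1 := congrFun e p
  simp [be_apply, hd] at h1
  rw [h1, zero_smul]

theorem QS_cen (hA : A ∈ QS (i0 hn) (i1 hn)) (h : ∀ B ∈ QS (i0 hn) (i1 hn), Commute B A) :
    A ∈ US (i0 hn) (i1 hn) := by
  intro v hv
  have h1 : InL (i0 hn) (rho n F A v - v) := by
    have h2 := commute_iff_conj.1 (h _ (uu_mem_QS (d01 hn) hv 0)).symm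
    rw [conj_uu_lin hA.1 hv.1] at h2
    exact uu_inj ((C0_fixE (QS_le_C0 hA)).prp (SI.of_rho A) hv).1 hv.1 h2
  have h1' : InL (i1 hn) (rho n F A v - v) := by
    have h2 := commute_iff_conj.1 (h (uu (i1 hn) v 0) (by rw [QS_symm]; exact uu_mem_QS (d01 hn).symm hv.symm 0)).symm
    rw [conj_uu_lin hA.2.1 hv.2] at h2
    exact uu_inj ((C0_fixE (QS_le_C0 hA)).prp (SI.of_rho A) hv).2 hv.2 h2
  exact sub_eq_zero.1 (inL_inL (d01 hn).1 h1 h1')

theorem US_sq (hA : A ∈ US (i0 hn) (i1 hn)) : A * A = 1 := by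
  have h := hA
  obtain ⟨a, b, c, e⟩ := exists_US (d01 hn) hA
  refine rext fun v => ?_
  have h01 := (d01 hn).1
  have h2 : InE (i0 hn) (i1 hn) (rho n F A v - v) := by
    rw [e]
    have g1 : ∀ x, InE (i0 hn) (i1 hn) x →
        InE (i0 hn) (i1 hn) (rho n F (sx (i0 hn) (i1 hn) c * sy (i0 hn) a) (v + x) - v) := by
      intro x hx
      have g2 : rho n F (sx (i0 hn) (i1 hn) c * sy (i0 hn) a) (v + x) - v =
          (rho n F (zz hn c a) v - v) + rho n F (zz hn c a) x := by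
        rw [zz_eq, radd]; abel
      rw [g2]
      refine InE.add ?_ ?_
      · rw [zz_sub]; exact ⟨_, _, rfl⟩
      · exact (C0_fixE (E3_le_C0 (Up_le_E3 (zz_mem_Up hn c a)))).fwd _ hx
    rw [rmul, rho_sy]
    exact g1 _ (InE.right.smul _)
  rw [rmul, rone]
  have h3 := h _ (h2.prp (d01 hn))
  rw [rsub] at h3
  have h4 : rho n F A (rho n F A v) = v + (2 : F) • (rho n F A v - v) := by
    rw [sub_eq_iff_eq_add] at h3
    rw [h3, two_smul]; abel
  rw [h4, two0, zero_smul, add_zero]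

theorem US_eq : (US (i0 hn) (i1 hn) : Subgroup (Sy n F)) =
    QS (i0 hn) (i1 hn) ⊓ Subgroup.centralizer ((QS (i0 hn) (i1 hn) : Subgroup (Sy n F)) : Set (Sy n F)) := by
  apply le_antisymm
  · intro A hA
    refine ⟨US_le_QS (d01 hn) hA, Subgroup.mem_centralizer_iff.2 fun B hB => (comm_US_QS hA hB).eq⟩
  · rintro A ⟨hA, hA'⟩
    exact QS_cen hA fun B hB => Subgroup.mem_centralizer_iff.1 hA' B hB

theorem comm_mem_US (hA : A ∈ QS (i0 hn) (i1 hn)) (hB : B ∈ QS (i0 hn) (i1 hn)) : ⁅A, B⁆ ∈ US (i0 hn) (i1 hn) := by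
  intro v hv
  have hfix : ∀ C ∈ QS (i0 hn) (i1 hn), ∀ x : Ix n → F, InE (i0 hn) (i1 hn) x → rho n F C x = x := by
    rintro C hC _ ⟨a, b, rfl⟩
    rw [radd, rsmul, rsmul, hC.1, hC.2.1]
  have key : ∀ x : Ix n → F, Prp (i0 hn) (i1 hn) x → rho n F A (rho n F B x) = rho n F B (rho n F A x) := by
    intro x hx
    have e1 : rho n F A (rho n F B x) = rho n F A x + (rho n F B x - x) := by
      have e : rho n F B x = x + (rho n F B x - x) := by abel
      conv_lhs => rw [e, radd, hfix A hA _ (hB.2.2 x hx)]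
    have e2 : rho n F B (rho n F A x) = rho n F B x + (rho n F A x - x) := by
      have e : rho n F A x = x + (rho n F A x - x) := by abel
      conv_lhs => rw [e, radd, hfix B hB _ (hA.2.2 x hx)]
    rw [e1, e2]; abel
  have hx : Prp (i0 hn) (i1 hn) (rho n F (A⁻¹ * B⁻¹) v) :=
    (C0_fixE (QS_le_C0 (mul_mem (inv_mem hA) (inv_mem hB)))).prp (SI.of_rho _) hv
  have h1 := key _ hx
  have e : ⁅A, B⁆ = A * B * (A⁻¹ * B⁻¹) := by rw [commutatorElement_def]; group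
  rw [e, rmul, rmul, h1, ← rmul, ← rmul]
  have e2 : B * A * (A⁻¹ * B⁻¹) = 1 := by group
  rw [e2, rone]

omit [Finite F] in
theorem form_prp {p q : Ix n} {x y : Ix n → F} (hx : Prp p q x) (hy : InE p q y) : sympForm n F x y = 0 := by
  obtain ⟨a, b, rfl⟩ := hy
  rw [sympForm_add_right, sympForm_smul_right, sympForm_smul_right, form_be, form_be, hx.1, hx.2, mul_zero, mul_zero,
    add_zero]

/-- `(ABx, BAx) = 0` -/
theorem form_comm (hA : A ∈ QS (i0 hn) (i1 hn)) (hB : B ∈ QS (i0 hn) (i1 hn)) (x : Ix n → F) :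
    sympForm n F (rho n F A (rho n F B x)) (rho n F B (rho n F A x)) = 0 := by
  have hP : ∀ C ∈ QS (i0 hn) (i1 hn), Prp (i0 hn) (i1 hn) (rho n F C x - x) := by
    intro C hC
    constructor
    · have h1 := rform C x (be n F (i0 hn))
      rw [hC.1, form_be, form_be] at h1
      rw [Pi.sub_apply, h1, sub_self]
    · have h1 := rform C x (be n F (i1 hn))
      rw [hC.2.1, form_be, form_be] at h1
      rw [Pi.sub_apply, h1, sub_self]
  obtain ⟨u, hu⟩ : ∃ u, u = rho n F A x - x := ⟨_, rfl⟩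
  obtain ⟨w, hw⟩ : ∃ w, w = rho n F B x - x := ⟨_, rfl⟩
  have pu : Prp (i0 hn) (i1 hn) u := by rw [hu]; exact hP A hA
  have pw : Prp (i0 hn) (i1 hn) w := by rw [hw]; exact hP B hB
  have eA : rho n F A x = x + u := by rw [hu]; abel
  have eB : rho n F B x = x + w := by rw [hw]; abel
  obtain ⟨ε, hε⟩ : ∃ ε, ε = rho n F A w - w := ⟨_, rfl⟩
  obtain ⟨δ, hδ⟩ : ∃ δ, δ = rho n F B u - u := ⟨_, rfl⟩
  have pε : InE (i0 hn) (i1 hn) ε := by rw [hε]; exact hA.2.2 w pw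
  have pδ : InE (i0 hn) (i1 hn) δ := by rw [hδ]; exact hB.2.2 u pu
  have eAw : rho n F A w = w + ε := by rw [hε]; abel
  have eBu : rho n F B u = u + δ := by rw [hδ]; abel
  have f1 := rform B x u
  have f2 := rform A x w
  rw [eB, eBu] at f1
  rw [eA, eAw] at f2
  rw [eB, radd, eA, eAw, radd, eB, eBu]
  simp only [sympForm_add_right, sympForm_add_left, sympForm_self] at f1 f2 ⊢
  have g1 := form_prp pw pδ
  have g2 := form_prp pu pε
  have g3 := form_prp pu pδ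
  have g4 := form_prp pw pε
  have g5 := form_prp (pε.prp (d01 hn)) pδ
  have c1 := fsymm w u
  have c2 := fsymm u x
  have c3 := fsymm w x
  have c4 := fsymm ε x
  have c5 := fsymm ε u
  have c6 := fsymm ε w
  rw [c5, c6, c4, c1, c2, c3]
  rw [c1] at f1
  linear_combination f1 + f2 + g3 + g4 + g5 + (sympForm n F x u + sympForm n F x w + sympForm n F u w) *
    (two0 : (2 : F) = 0) - (sympForm n F u w) * (two0 : (2 : F) = 0)

end le

end Cfsg.Agent.Omega.All.SpN
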