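import Cfsg.Agent.Omega.All.SpN.Inner

/-!
# THEOREM F1-h1, `Sp_2n(q)`: facts inside `Sp_2n(F)`, II (helper678)

* `comm_QS` : `[Q_s, Q_s] = X_12`; `irr_QS` : a `C0`-invariant `T ≤ Q_s` with `C_{Q_s}(T) ≤ T` is `Q_s`;
* `typ_US`, `typ_UL` : types of elements of `U_s`, `U_l`; `exists_torus`.
-/

set_option autoImplicit false
set_option linter.unusedSectionVars false

namespace Cfsg.Agent.Omega.All.SpN

open Cfsg Cfsg.Agent.ClassicalGeometry.SympBasic Cfsg.Agent.ClassicalGeometry.SympAutSemi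
open Cfsg.Agent.OddHalf.SpN Cfsg.Agent.OddHalf.SpN.Out
open scoped Matrix commutatorElement

variable {n : ℕ} {F : Type*} [Field F] [CharP F 2] {hn : 3 ≤ n} [Finite F] {A B : Sy n F}

theorem prp_be {p q k : Ix n} (h0 : Dj k p) (h1 : Dj k q) : Prp p q (be n F k) := by
  constructor
  · rw [be_apply, if_neg h0.2.symm]
  · rw [be_apply, if_neg h1.2.symm]

theorem sx_mem_QS {k : Ix n} (h0 : Dj k (i0 hn)) (h1 : Dj k (i1 hn)) (a : F) :
    sx (i0 hn) k a ∈ QS (i0 hn) (i1 hn) := by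
  rw [← uu_be h0.symm]
  exact uu_mem_QS (d01 hn) ((prp_be h0 h1).smul a) 0

theorem sx_mem_QS' {k : Ix n} (h0 : Dj k (i0 hn)) (h1 : Dj k (i1 hn)) (a : F) :
    sx (i1 hn) k a ∈ QS (i0 hn) (i1 hn) := by
  rw [← uu_be h1.symm, QS_symm]
  exact uu_mem_QS (d01 hn).symm ((prp_be h1 h0).smul a) 0

theorem comm_mem_X12 (hA : A ∈ QS (i0 hn) (i1 hn)) (hB : B ∈ QS (i0 hn) (i1 hn)) : ⁅A, B⁆ ∈ X12 hn := by
  obtain ⟨a, b, c, e⟩ := exists_US (d01 hn) (comm_mem_US hA hB)
  have hD : ∀ y, rho n F ⁅A, B⁆ y = y + (c * y (neg (i1 hn)) + a * y (neg (i0 hn))) • be n F (i0 hn) +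
      (c * y (neg (i0 hn)) + b * y (neg (i1 hn))) • be n F (i1 hn) := by
    intro y
    have h01 := (d01 hn).1
    have h1 : be n F (i1 hn) (neg (i0 hn)) = (0 : F) := (InE.right.prp (d01 hn)).1
    have h2 : be n F (i1 hn) (neg (i1 hn)) = (0 : F) := (InE.right.prp (d01 hn)).2
    have h3 : be n F (i0 hn) (neg (i0 hn)) = (0 : F) := (InE.left.prp (d01 hn)).1
    have h4 : be n F (i0 hn) (neg (i1 hn)) = (0 : F) := (InE.left.prp (d01 hn)).2
    rw [e, rmul, rmul, rho_sy, rho_sy, rho_sx (d01 hn)]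
    ext k
    simp only [Pi.add_apply, Pi.smul_apply, smul_eq_mul, h1, h2, h3, h4]
    ring
  have key : ∀ x, sympForm n F (rho n F ⁅A, B⁆ (rho n F B (rho n F A x))) (rho n F B (rho n F A x)) = 0 := by
    intro x
    have h1 : rho n F ⁅A, B⁆ (rho n F B (rho n F A x)) = rho n F A (rho n F B x) := by
      rw [← rmul, ← rmul, ← rmul]
      have e2 : ⁅A, B⁆ * (B * A) = A * B := by rw [commutatorElement_def]; group
      rw [mul_assoc, e2, rmul]
    rw [h1]
    exact form_comm hA hB x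
  have hi : ∀ x (k : Ix n), rho n F A (be n F k) = be n F k → rho n F B (be n F k) = be n F k →
      rho n F B (rho n F A x) (neg k) = x (neg k) := by
    intro x k h1 h2
    have h3 := rform B (rho n F A x) (be n F k)
    have h4 := rform A x (be n F k)
    rw [h2, form_be, form_be] at h3
    rw [h1, form_be, form_be] at h4
    rw [h3, h4]
  have hk0 : ∀ x, rho n F B (rho n F A x) (neg (i0 hn)) = x (neg (i0 hn)) := fun x => hi x _ hA.1 hB.1
  have hk1 : ∀ x, rho n F B (rho n F A x) (neg (i1 hn)) = x (neg (i1 hn)) := fun x => hi x _ hA.2.1 hB.2.1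
  have g : ∀ x : Ix n → F, a * (x (neg (i0 hn))) ^ 2 + b * (x (neg (i1 hn))) ^ 2 = 0 := by
    intro x
    have h1 := key x
    rw [hD, sympForm_add_left, sympForm_add_left, sympForm_smul_left, sympForm_smul_left, sympForm_self, form_be',
      form_be', hk0, hk1] at h1
    linear_combination h1 - (c * x (neg (i0 hn)) * x (neg (i1 hn))) * (two0 : (2 : F) = 0)
  have ha : a = 0 := by
    have h1 := g (be n F (neg (i0 hn)))
    have h2 : (be n F (neg (i0 hn)) : Ix n → F) (neg (i1 hn)) = 0 := by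
      rw [be_apply, if_neg fun e => (d01 hn).1 (OddHalf.SpN.neg_inj.1 e).symm]
    simpa [h2, be_apply] using h1
  have hb : b = 0 := by
    have h1 := g (be n F (neg (i1 hn)))
    have h2 : (be n F (neg (i1 hn)) : Ix n → F) (neg (i0 hn)) = 0 := by
      rw [be_apply, if_neg fun e => (d01 hn).1 (OddHalf.SpN.neg_inj.1 e)]
    simpa [h2, be_apply] using h1
  refine ⟨c, ?_⟩
  rw [e, ha, hb, sy_zero, sy_zero, mul_one, mul_one, zz_eq0]

theorem d21 (hn : 3 ≤ n) : Dj (neg (i2 hn)) (i1 hn) := dj_neg_left.2 (d12 hn).symm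

theorem d20 (hn : 3 ≤ n) : Dj (neg (i2 hn)) (i0 hn) := dj_neg_left.2 (d02 hn).symm

theorem comm_QS : ⁅(QS (i0 hn) (i1 hn) : Subgroup (Sy n F)), QS (i0 hn) (i1 hn)⁆ = (X12 hn : Subgroup (Sy n F)) := by
  apply le_antisymm
  · exact Subgroup.commutator_le.2 fun A hA B hB => comm_mem_X12 hA hB
  · rintro _ ⟨a, rfl⟩
    have h := sx_rel (d02 hn) (d12 hn).symm (d01 hn) 1 a
    rw [one_mul] at h
    have e : zz hn a 0 = ⁅sx (i0 hn) (i2 hn) (1 : F), sx (i1 hn) (neg (i2 hn)) a⁆ := by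
      rw [zz_eq0, commutatorElement_def, sx_symm (i1 hn) (neg (i2 hn)), h]; group
    rw [e]
    exact Subgroup.commutator_mem_commutator (sx_mem_QS (d02 hn).symm (d12 hn).symm 1)
      (sx_mem_QS' (d20 hn) (d21 hn) a)

/-! ### irreducibility -/

/-- elements of `C0` from transvections -/
theorem transv_mem_E3 {u : Ix n → F} (hu : Prp (i0 hn) (i1 hn) u) (a : F) : transv u a ∈ E3 hn := by
  refine mem_E3.2 fun x y => ?_
  have h1 : rho n F (transv u a) (be n F (i0 hn)) = be n F (i0 hn) := by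
    rw [rho_transv, form_be', hu.1]; simp
  have h2 : rho n F (transv u a) (be n F (i1 hn)) = be n F (i1 hn) := by
    rw [rho_transv, form_be', hu.2]; simp
  rw [zz_eq]
  refine Commute.mul_right ?_ (comm_sy_of_fix h1 y)
  rw [← uu_be (d01 hn), commute_iff_conj, conj_uu_lin h1 ((InE.right.prp (d01 hn)).smul x).1, rsmul, h2]

theorem nonE {u : Ix n → F} (hu : Prp (i0 hn) (i1 hn) u) (h : ¬ InE (i0 hn) (i1 hn) u) :
    ∃ k, Dj k (i0 hn) ∧ Dj k (i1 hn) ∧ u k ≠ 0 := by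
  by_contra hne
  push Not at hne
  apply h
  refine ⟨u (i0 hn), u (i1 hn), ?_⟩
  ext k
  have h01 := (d01 hn).1
  by_cases k1 : k = i0 hn
  · subst k1; simp [be_apply, h01]
  by_cases k2 : k = i1 hn
  · subst k2; simp [be_apply, h01.symm]
  have h3 : u k = 0 := by
    by_cases k3 : k = neg (i0 hn)
    · rw [k3]; exact hu.1
    by_cases k4 : k = neg (i1 hn)
    · rw [k4]; exact hu.2
    exact hne k ⟨k1, k3⟩ ⟨k2, k4⟩
  simp [be_apply, k1, k2, h3]

/-- `C0` moves a vector of `E` to `⟨e_1⟩` -/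
theorem exists_C0 {e : Ix n → F} (he : InE (i0 hn) (i1 hn) e) :
    ∃ g ∈ (C0 hn : Subgroup (Sy n F)), ∃ l : F, rho n F g e = l • be n F (i0 hn) := by
  obtain ⟨a, b, rfl⟩ := he
  by_cases hb : b = 0
  · exact ⟨1, one_mem _, a, by rw [rone, hb, zero_smul, add_zero]⟩
  · have hd : Dj (i0 hn) (neg (i1 hn)) := dj_neg_right.2 (d01 hn)
    have h1 : sx (i0 hn) (neg (i1 hn)) (a / b) ∈ C0 hn := by
      refine mem_C0.2 fun x => ?_
      rw [zz_eq0]
      have h := (sx_comm' (F := F) (i := i1 hn) (j := i0 hn) x (a / b)).symm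
      rwa [sx_symm (neg (i1 hn)), sx_symm (i1 hn)] at h
    refine ⟨sw (w01 hn) * sx (i0 hn) (neg (i1 hn)) (a / b), mul_mem w01_mem h1, b, ?_⟩
    have h01 := (d01 hn).1
    have h3 : be n F (i0 hn) (neg (i0 hn)) = (0 : F) := (InE.left.prp (d01 hn)).1
    have h4 : be n F (i1 hn) (neg (i0 hn)) = (0 : F) := (InE.right.prp (d01 hn)).1
    have h5 : be n F (i0 hn) (i1 hn) = (0 : F) := by rw [be_apply, if_neg h01.symm]
    have h6 : be n F (i1 hn) (i1 hn) = (1 : F) := by rw [be_apply, if_pos rfl]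
    have h2 : rho n F (sx (i0 hn) (neg (i1 hn)) (a / b)) (a • be n F (i0 hn) + b • be n F (i1 hn)) =
        b • be n F (i1 hn) := by
      rw [rho_sx hd, neg_neg]
      simp only [Pi.add_apply, Pi.smul_apply, smul_eq_mul, h3, h4, h5, h6, mul_zero, add_zero, zero_smul, zero_add,
        mul_one, div_mul_cancel₀ _ hb]
      rw [add_right_comm, ← two_smul F, two0, zero_smul, zero_add]
    rw [rmul, h2, rsmul, conj_be w01_1]

section irr

variable {T : Subgroup (Sy n F)} (hT : T ≤ QS (i0 hn) (i1 hn))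
  (hC : C0 hn ≤ Subgroup.normalizer (T : Set (Sy n F)))
  (hcen : QS (i0 hn) (i1 hn) ⊓ Subgroup.centralizer (T : Set (Sy n F)) ≤ T)

include hT hC hcen

theorem irr_US : US (i0 hn) (i1 hn) ≤ T := fun _ hA =>
  hcen ⟨US_le_QS (d01 hn) hA, Subgroup.mem_centralizer_iff.2 fun _ hB => (comm_US_QS hA (hT hB)).eq⟩

theorem irr_conj {g t : Sy n F} (hg : g ∈ C0 hn) (ht : t ∈ T) : g * t * g⁻¹ ∈ T :=
  (Subgroup.mem_normalizer_iff.1 (hC hg) t).1 ht

theorem irr_moved : ∃ t ∈ T, t ∉ US (i0 hn) (i1 hn) := by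
  by_contra hne
  push Not at hne
  have h1 : QS (i0 hn) (i1 hn) ≤ T := fun A hA =>
    hcen ⟨hA, Subgroup.mem_centralizer_iff.2 fun _ hB => (comm_US_QS (hne _ hB) hA).eq.symm⟩
  have h2 := hne _ (h1 (sx_mem_QS (d02 hn).symm (d12 hn).symm (1 : F))) (be n F (neg (i2 hn))) (prp_be (d20 hn) (d21 hn))
  have h3 := congrFun h2 (i0 hn)
  rw [rho_sx (d02 hn)] at h3
  have g1 := (d20 hn).1
  have g2 := (d02 hn).1
  simp [be_apply, g1.symm, g2] at h3

/-- an element of `T ∩ U_l` outside `U_s` -/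
theorem irr_uu : ∃ u : Ix n → F, Prp (i0 hn) (i1 hn) u ∧ ¬ InE (i0 hn) (i1 hn) u ∧ uu (i0 hn) u 0 ∈ T := by
  obtain ⟨t, ht, hne⟩ := irr_moved hT hC hcen
  obtain ⟨u, hu, hu'⟩ : ∃ u, Prp (i0 hn) (i1 hn) u ∧ rho n F t u ≠ u := by
    by_contra h
    push Not at h
    exact hne h
  obtain ⟨e, he⟩ : ∃ e, e = rho n F t u - u := ⟨_, rfl⟩
  have he' : rho n F t u = u + e := by rw [he]; abel
  have heE : InE (i0 hn) (i1 hn) e := by rw [he]; exact (hT ht).2.2 u hu
  have he0 : e ≠ 0 := fun h => hu' (by rw [he', h, add_zero])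
  have huE : ¬ InE (i0 hn) (i1 hn) u := by
    rintro ⟨a, b, rfl⟩
    apply hu'
    rw [radd, rsmul, rsmul, (hT ht).1, (hT ht).2.1]
  -- the commutator with a transvection
  set y : Sy n F := transv u 1 with hy
  have hyC : y ∈ C0 hn := E3_le_C0 (transv_mem_E3 hu 1)
  have hr : y * t * y⁻¹ * t⁻¹ ∈ T := mul_mem (irr_conj hT hC hcen hyC ht) (inv_mem ht)
  have hy2 : y * (t * y⁻¹ * t⁻¹) = y * t * y⁻¹ * t⁻¹ := by group
  have hyy : y⁻¹ = y := by
    rw [inv_eq_iff_mul_eq_one]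
    refine rext fun v => ?_
    rw [rmul, hy, rho_transv, rho_transv, rone, sympForm_add_left, sympForm_smul_left, sympForm_self]
    ext k
    simp only [Pi.add_apply, Pi.smul_apply, smul_eq_mul]
    linear_combination (sympForm n F v u * u k) * (two0 : (2 : F) = 0)
  have hty : t * y⁻¹ * t⁻¹ = transv (u + e) 1 := by
    rw [hyy]
    apply rho_injective
    rw [map_mul, map_mul, map_inv, hy, (SI.of_rho t).conj_transv, he', map_one]
  have hrv : ∀ v, Prp (i0 hn) (i1 hn) v → rho n F (y * t * y⁻¹ * t⁻¹) v = v + sympForm n F v u • e := by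
    intro v hv
    rw [← hy2, hty, rmul, hy, rho_transv, rho_transv]
    have g1 : sympForm n F v e = 0 := form_prp hv heE
    have g2 : sympForm n F e u = 0 := by rw [fsymm]; exact form_prp hu heE
    simp only [sympForm_add_right, sympForm_add_left, sympForm_smul_left, sympForm_self, g1, g2, mul_zero, add_zero,
      one_mul]
    ext k
    simp only [Pi.add_apply, Pi.smul_apply, smul_eq_mul]
    linear_combination (sympForm n F v u * u k) * (two0 : (2 : F) = 0)
  obtain ⟨g, hg, l, hl⟩ := exists_C0 heE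
  have hl0 : l ≠ 0 := by
    rintro rfl
    rw [zero_smul] at hl
    exact he0 ((rho n F g).injective (hl.trans (rzero g).symm))
  have hgE := C0_fixE hg
  have hgu : Prp (i0 hn) (i1 hn) (rho n F g u) := hgE.prp (SI.of_rho g) hu
  have hgT := irr_conj hT hC hcen hg hr
  set r := y * t * y⁻¹ * t⁻¹ with hr'
  refine ⟨l • rho n F g u, hgu.smul l, fun h => huE ?_, ?_⟩
  · have h1 := (hgE.bwd _ h).smul l⁻¹
    rw [← map_inv, rsmul, rinv_self, smul_smul, inv_mul_cancel₀ hl0, one_smul] at h1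
    exact h1
  · have hU : uu (i0 hn) (l • rho n F g u) 0 * (g * r * g⁻¹)⁻¹ ∈ US (i0 hn) (i1 hn) := by
      have hQ : uu (i0 hn) (l • rho n F g u) 0 ∈ QS (i0 hn) (i1 hn) := uu_mem_QS (d01 hn) (hgu.smul l) 0
      have key : ∀ v, Prp (i0 hn) (i1 hn) v →
          rho n F (uu (i0 hn) (l • rho n F g u) 0) v = rho n F (g * r * g⁻¹) v := by
        intro v hv
        have hv' : Prp (i0 hn) (i1 hn) (rho n F g⁻¹ v) := (C0_fixE (inv_mem hg)).prp (SI.of_rho _) hv
        rw [rmul, rmul, hrv _ hv', radd, rself_inv, rsmul, hl, rho_uu (hgu.smul l).1, hv.1, zero_smul, mul_zero,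
          add_zero, add_zero, smul_smul, sympForm_smul_right]
        congr 2
        have h1 := rform g (rho n F g⁻¹ v) u
        rw [rself_inv] at h1
        rw [h1, mul_comm]
      intro v hv
      have hv' : Prp (i0 hn) (i1 hn) (rho n F (g * r * g⁻¹)⁻¹ v) :=
        (C0_fixE (inv_mem (QS_le_C0 (hT hgT)))).prp (SI.of_rho _) hv
      rw [rmul, key _ hv', rself_inv]
    have h2 := mul_mem (irr_US hT hC hcen hU) hgT
    rwa [inv_mul_cancel_right] at h2

/-- a root group -/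
theorem irr_sx (s : F) : sx (i0 hn) (i2 hn) s ∈ T := by
  obtain ⟨u, hu, huE, huT⟩ := irr_uu hT hC hcen
  obtain ⟨k, hk0, hk1, hk⟩ := nonE hu huE
  have hk0' : Dj (neg k) (i0 hn) := dj_neg_left.2 hk0
  have hk1' : Dj (neg k) (i1 hn) := dj_neg_left.2 hk1
  set c := s / u k with hc
  have hy : transv (be n F (neg k)) c ∈ C0 hn := E3_le_C0 (transv_mem_E3 (prp_be hk0' hk1') c)
  have h1 := irr_conj hT hC hcen hy huT
  have hyp : rho n F (transv (be n F (neg k)) c) (be n F (i0 hn)) = be n F (i0 hn) := by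
    have h := sympForm_self (m := n) (F := F) (be n F (i0 hn))
    rw [rho_transv, form_be, neg_neg, be_apply, if_neg hk0.1, mul_zero, zero_smul, add_zero]
  rw [conj_uu_lin hyp hu.1] at h1
  have e1 : rho n F (transv (be n F (neg k)) c) u = u + s • be n F (neg k) := by
    rw [rho_transv, form_be, neg_neg, hc, div_mul_cancel₀ _ hk]
  rw [e1] at h1
  have h2 := mul_mem h1 huT
  have hks : Prp (i0 hn) (i1 hn) (s • be n F (neg k)) := (prp_be hk0' hk1').smul s
  rw [uu_mul (hu.add hks).1 hu.1] at h2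
  have e2 : u + s • be n F (neg k) + u = s • be n F (neg k) := by
    ext m
    simp only [Pi.add_apply, Pi.smul_apply, smul_eq_mul]
    linear_combination (u m) * (two0 : (2 : F) = 0)
  rw [e2, uu_q hk0'.symm] at h2
  have h3 : sx (i0 hn) (neg k) s ∈ T := by
    have h4 := mul_mem h2 (inv_mem (irr_US hT hC hcen (sy_mem_US (p := i0 hn) (q := i1 hn)
      (0 + 0 + sympForm n F u (u + s • be n F (neg k))))))
    rwa [mul_inv_cancel_right] at h4
  obtain ⟨w, w0, w1, w2⟩ := exists_w hk0' hk1'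
  have h4 := irr_conj hT hC hcen (inv_mem (E3_le_C0 (sw_mem_E3 (F := F) w0 w1))) h3
  rw [← map_inv, sw_sx] at h4
  have e3 : (w⁻¹).1 (i0 hn) = i0 hn := (W_inv_eq w).2 w0.symm
  have e4 : (w⁻¹).1 (neg k) = i2 hn := (W_inv_eq w).2 w2.symm
  rwa [e3, e4] at h4

theorem irr_all {b : Ix n → F} (hb : Prp (i0 hn) (i1 hn) b) : ∀ a, uu (i0 hn) b a ∈ T := by
  have hsx : ∀ k, Dj k (i0 hn) → Dj k (i1 hn) → ∀ s, sx (i0 hn) k s ∈ T := by
    intro k hk0 hk1 s
    obtain ⟨w, w0, w1, w2⟩ := exists_w hk0 hk1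
    have h4 := irr_conj hT hC hcen (E3_le_C0 (sw_mem_E3 (F := F) w0 w1)) (irr_sx hT hC hcen s)
    rwa [sw_sx, w0, w2] at h4
  have hUS := irr_US hT hC hcen
  let M : AddSubmonoid (Ix n → F) :=
    { carrier := {v | Prp (i0 hn) (i1 hn) v ∧ ∀ a, uu (i0 hn) v a ∈ T}
      zero_mem' := ⟨Prp.zero, fun a => by rw [uu_zero]; exact hUS (sy_mem_US a)⟩
      add_mem' := by
        rintro x y ⟨hx, hx'⟩ ⟨hy, hy'⟩
        refine ⟨hx.add hy, fun a => ?_⟩
        have h := mul_mem (hx' (a - sympForm n F y x)) (hy' 0)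
        rw [uu_mul hx.1 hy.1, add_zero, sub_add_cancel] at h
        exact h }
  have key : b ∈ M := by
    rw [expand b]
    refine M.sum_mem fun k _ => ?_
    by_cases k0 : k = i0 hn
    · subst k0
      refine ⟨(InE.left.prp (d01 hn)).smul _, fun a => ?_⟩
      have h := uu_add_p (p := i0 hn) (b := (0 : Ix n → F)) rfl (b (i0 hn)) a
      rw [zero_add] at h
      rw [h, uu_zero]
      exact hUS (sy_mem_US a)
    by_cases k1 : k = i1 hn
    · subst k1
      refine ⟨(InE.right.prp (d01 hn)).smul _, fun a => ?_⟩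
      rw [uu_q (d01 hn)]
      exact mul_mem (hUS (sx_mem_US (d01 hn) _)) (hUS (sy_mem_US a))
    by_cases k2 : k = neg (i0 hn)
    · rw [k2, hb.1, zero_smul]; exact M.zero_mem
    by_cases k3 : k = neg (i1 hn)
    · rw [k3, hb.2, zero_smul]; exact M.zero_mem
    have hk0 : Dj k (i0 hn) := ⟨k0, k2⟩
    have hk1 : Dj k (i1 hn) := ⟨k1, k3⟩
    refine ⟨(prp_be hk0 hk1).smul _, fun a => ?_⟩
    rw [uu_q hk0.symm]
    exact mul_mem (hsx k hk0 hk1 _) (hUS (sy_mem_US a))
  exact key.2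

theorem irr_QS : T = QS (i0 hn) (i1 hn) := by
  refine le_antisymm hT fun A hA => ?_
  obtain ⟨b, a, b', a', hb, hb', rfl⟩ := exists_JJ (d01 hn) hA
  refine mul_mem (irr_all hT hC hcen hb a) ?_
  have hw := w01_mem (F := F) (hn := hn)
  have hb2 : Prp (i0 hn) (i1 hn) (rho n F (sw (w01 hn))⁻¹ b') := (C0_fixE (inv_mem hw)).prp (SI.of_rho _) hb'
  have h := irr_conj hT hC hcen hw (irr_all hT hC hcen hb2 a')
  have e : sw (w01 hn) * uu (i0 hn) (rho n F (sw (w01 hn))⁻¹ b') a' * (sw (w01 hn))⁻¹ = uu (i1 hn) b' a' := by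
    apply rho_injective
    rw [map_mul, map_mul, map_inv]
    refine Equiv.ext fun v => ?_
    rw [← map_inv, Equiv.Perm.mul_apply, Equiv.Perm.mul_apply, rho_uu hb2.1, rho_uu hb'.2, radd, radd, rself_inv, rsmul,
      rself_inv, rsmul, conj_be w01_0]
    have g1 : rho n F (sw (w01 hn))⁻¹ v (neg (i0 hn)) = v (neg (i1 hn)) := by
      have h1 := rform (sw (F := F) (w01 hn)) (rho n F (sw (w01 hn))⁻¹ v) (be n F (i0 hn))
      rw [rself_inv, conj_be w01_0, form_be, form_be] at h1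
      exact h1.symm
    have g2 : sympForm n F (rho n F (sw (w01 hn))⁻¹ v) (rho n F (sw (w01 hn))⁻¹ b') = sympForm n F v b' :=
      rform _ _ _
    rw [g1, g2]
  rwa [e] at h

end irr

end Cfsg.Agent.Omega.All.SpN
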