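import Cfsg.Agent.Omega.All.SpN.Asm
import Cfsg.Agent.Omega.All.SpN.Off

/-!
# THEOREM F1-h1 (OMEGA #14479), `Sp_2n(q)`, `n ≥ 3`, `q` even: the data `SpDat` (helper678, helper165)

* `Hyp.spDat` : `SpDat` for `S` in standard position (`S ∩ G₀ = ι(Up)`);
* `exists_spDat` : for an arbitrary injective `ι₀ : Sp_2n(F) → G` with `C_G(G₀) = 1`, `S ≤ N_G(G₀)`,
  `N_G(X_s) ≤ N_G(G₀)`.
-/

set_option autoImplicit false
set_option linter.unusedSectionVars false

namespace Cfsg.Agent.Omega.All.SpN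

open Cfsg Cfsg.Agent.ClassicalGeometry.SympBasic Cfsg.Agent.ClassicalGeometry.SympAutSemi
open Cfsg.Agent.OddHalf.SpN Cfsg.Agent.OddHalf.SpN.Out
open Subgroup Cfsg.Agent.ZN
open Cfsg.Agent.Omega.All.HOne
open scoped Matrix commutatorElement

variable {n : ℕ} {F : Type*} [Field F] [Finite F] [CharP F 2]

theorem inn (hn : 3 ≤ n) : Inn F hn where
  offer := Off.offer hn
  lcs := Off.lcs hn
  cen := Off.cen (d01 hn)

variable {G : Type*} [Group G] [Finite G]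

/-- `SpDat` for `S` in standard position. -/
theorem Hyp.spDat {ι : Sy n F →* G} {S : Subgroup G} (H : Hyp ι S) (hn : 3 ≤ n)
    (hN : normalizer (((X12 hn).map ι : Subgroup G) : Set G) ≤ normalizer (ι.range : Set G)) :
    SpDat S (S ⊓ ι.range) (normalizer (ι.range : Set G)) ((C0 hn).map ι) ((X12 hn).map ι)
      ((QS (i0 hn) (i1 hn)).map ι) ((US (i0 hn) (i1 hn)).map ι) ((UL (i0 hn)).map ι) :=
  H.spDat_of (inn hn) hN

/-- General form: `ι A = y ι₀(A) y⁻¹` with `y ∈ N_G(G₀)`. -/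
theorem exists_spDat {ι₀ : Sy n F →* G} (hι : Function.Injective ι₀)
    (hcen : ∀ c : G, (∀ A, ι₀ A * c = c * ι₀ A) → c = 1) (S : Sylow 2 G)
    (hS : (S : Subgroup G) ≤ normalizer (ι₀.range : Set G)) (hn : 3 ≤ n)
    (hN : normalizer (((X12 hn).map ι₀ : Subgroup G) : Set G) ≤ normalizer (ι₀.range : Set G)) :
    ∃ (ι : Sy n F →* G) (y : G), y ∈ normalizer (ι₀.range : Set G) ∧ (∀ A, ι A = y * ι₀ A * y⁻¹) ∧
      ι.range = ι₀.range ∧ Hyp ι (S : Subgroup G) ∧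
      SpDat (S : Subgroup G) ((S : Subgroup G) ⊓ ι.range) (normalizer (ι.range : Set G)) ((C0 hn).map ι)
        ((X12 hn).map ι) ((QS (i0 hn) (i1 hn)).map ι) ((US (i0 hn) (i1 hn)).map ι) ((UL (i0 hn)).map ι) := by
  obtain ⟨ι, y, hy, hιe, hr, H⟩ := exists_hyp hι hcen S hS
  refine ⟨ι, y, hy, hιe, hr, H, H.spDat hn ?_⟩
  rw [hr]
  intro g hg
  have h1 : y⁻¹ * g * y ∈ normalizer (((X12 hn).map ι₀ : Subgroup G) : Set G) := by
    rw [mem_normalizer_iff]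
    have hx : ∀ x : G, x ∈ (X12 hn).map ι₀ ↔ y * x * y⁻¹ ∈ (X12 hn).map ι := by
      intro x
      constructor
      · rintro ⟨A, hA, rfl⟩
        exact ⟨A, hA, hιe A⟩
      · rintro ⟨A, hA, e⟩
        rw [hιe] at e
        exact ⟨A, hA, mul_left_cancel (mul_right_cancel e)⟩
    intro x
    rw [hx, hx, mem_normalizer_iff.1 hg]
    have e : g * (y * x * y⁻¹) * g⁻¹ = y * (y⁻¹ * g * y * x * (y⁻¹ * g * y)⁻¹) * y⁻¹ := by group
    rw [e]
  have h2 := mul_mem (mul_mem hy (hN h1)) (inv_mem hy)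
  have e : y * (y⁻¹ * g * y) * y⁻¹ = g := by group
  rwa [e] at h2

end Cfsg.Agent.Omega.All.SpN
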