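import Cfsg.Agent.Omega.All.SpN.Hyp

/-!
# THEOREM F1-h1, `Sp_2n(q)`: `O₂(C_G(Ω₁(Z(S)))) = Q_s U_l` (helper678)

* `Hyp.zc_le` : `Ω₁(Z(S)) ≤ X_12 Y_1`; `Hyp.oZ`.
-/

set_option autoImplicit false
set_option linter.unusedSectionVars false

namespace Cfsg.Agent.Omega.All.SpN

open Cfsg Cfsg.Agent.ClassicalGeometry.SympBasic Cfsg.Agent.ClassicalGeometry.SympAutSemi
open Cfsg.Agent.OddHalf.SpN Cfsg.Agent.OddHalf.SpN.Out
open Subgroup Cfsg.Agent.ZN
open Cfsg.Agent.Omega.FrameNOFF (CZ)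
open Cfsg.Agent.Omega.All.HOne
open Cfsg.Agent.MinSimple.VModule (le_o2 mem_zc o2_le o2_isPGroup le_normalizer_o2 le_centralizer_zc)
open scoped Matrix commutatorElement

variable {n : ℕ} {F : Type*} [Field F] {G : Type*} [Group G]

namespace Hyp

open Hyp0

variable [Finite F] [CharP F 2] {ι : Sy n F →* G} {S : Subgroup G} (H : Hyp ι S) {hn : 3 ≤ n}

include H

/-- `Ω₁(Z(S)) ≤ X_12 Y_1` -/
theorem zc_le (hn : 3 ≤ n) : zc S ≤ (Zz hn).map ι := by
  intro z hz
  obtain ⟨hzS, hzc, -⟩ := mem_zc.1 hz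
  obtain ⟨s, φ, d, hs, ha, ht⟩ := H.tri hn hzS
  have key : ∀ B ∈ Up n F, rho n F B = s * rho n F B * s⁻¹ := by
    intro B hB
    refine ha.rho_eq H.inj ?_
    rw [← hzc _ (H.iota_mem.2 hB)]; group
  have h0 : ∀ b : F, d (c0 hn) ^ 2 * φ b = b := by
    intro b
    have h1 := Tri.conj_zz hn hs ht 0 b
    rw [← key _ (zz_mem_Up hn 0 b)] at h1
    exact (zz_inj hn (rho_injective h1)).2
  have h1 : d (c0 hn) = 1 := by
    have h2 := h0 1
    rw [map_one, mul_one, pow_two] at h2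
    exact eq_one_of_sq h2
  have hφ : φ = 1 := by
    ext b
    have h2 := h0 b
    rw [h1, one_pow, one_mul] at h2
    exact h2
  rw [hφ] at hs
  obtain ⟨A, rfl, hA⟩ := H.exists_iota hs ha
  refine ⟨A, (mem_Zz_iff hn).2 fun B hB => ?_, rfl⟩
  have h2 := hzc _ (H.iota_mem.2 hB)
  rw [← map_mul, ← map_mul] at h2
  exact H.inj h2

theorem E3_le (hn : 3 ≤ n) : (E3 hn).map ι ≤ CZ S := by
  rw [H.E_eq hn]
  exact inf_le_right.trans (centralizer_le (H.zc_le hn))

theorem QSL_map (hn : 3 ≤ n) :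
    (QS (i0 hn) (i1 hn)).map ι ⊔ (UL (i0 hn)).map ι = (QSL (i0 hn) (i1 hn)).map ι := by
  rw [← Subgroup.map_sup, QSL_eq]

/-- `O₂(C_G(Ω₁(Z(S)))) = Q_s U_l` -/
theorem oZ [Finite G] (hn : 3 ≤ n) (hY : CZ S ≤ normalizer (ι.range : Set G)) :
    o2 (CZ S) = (QS (i0 hn) (i1 hn)).map ι ⊔ (UL (i0 hn)).map ι := by
  rw [H.QSL_map hn]
  apply le_antisymm
  · have hOS : o2 (CZ S) ≤ S := by
      have h1 : S ≤ normalizer (o2 (CZ S) : Set G) := (le_centralizer_zc S).trans (le_normalizer_o2 _)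
      have h2 : IsPGroup 2 (o2 (CZ S) ⊔ S : Subgroup G) :=
        IsPGroup.to_sup_of_normal_left' (o2_isPGroup _) H.pS h1
      exact le_sup_left.trans (H.max _ h2 le_sup_right)
    have hT : ∀ A : Sy n F, ι A ∈ o2 (CZ S) → A ∈ QSL (i0 hn) (i1 hn) := by
      intro A hA
      refine max_QSL (H.iota_mem.1 (hOS hA)) fun w hw => H.iota_mem.1 (hOS ?_)
      have h1 := (mem_normalizer_iff''.1 (le_normalizer_o2 _ (H.E3_le hn ⟨w, hw, rfl⟩)) _).1 hA
      rwa [map_mul, map_mul, map_inv]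
    intro g hg
    obtain ⟨s, φ, d, hs, ha, ht⟩ := H.tri hn (hOS hg)
    have hP : Prp (i0 hn) (i1 hn) (be n F (i2 hn)) := prp_be (d02 hn).symm (d12 hn).symm
    have hP' : Prp (i0 hn) (i1 hn) (be n F (neg (i2 hn))) := prp_be (d20 hn) (d21 hn)
    obtain ⟨ε, hε, s2⟩ : ∃ ε, InE (i0 hn) (i1 hn) ε ∧ s (be n F (i2 hn)) = d (c2 hn) • be n F (i2 hn) + ε :=
      ⟨_, Tri.e2 hn ht, by abel⟩
    have key : ∀ a : F, φ a * (d (c2 hn) * d (c2 hn)) = a := by
      intro a
      set c : Sy n F := transv (be n F (i2 hn)) a with hc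
      have hcE : c ∈ E3 hn := transv_mem_E3 hP a
      have hcZ := H.E3_le hn ⟨c, hcE, rfl⟩
      obtain ⟨B, hB⟩ := hs.exists_conj c
      have h1 : B * c⁻¹ ∈ QSL (i0 hn) (i1 hn) := by
        apply hT
        have h2 : g * (ι c * g⁻¹ * (ι c)⁻¹) ∈ o2 (CZ S) :=
          mul_mem hg ((mem_normalizer_iff.1 (le_normalizer_o2 _ hcZ) _).1 (inv_mem hg))
        have e : g * (ι c * g⁻¹ * (ι c)⁻¹) = ι (B * c⁻¹) := by
          rw [map_mul, map_inv, ← ha.eq hB]; group
        rwa [e] at h2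
      have e1 : rho n F c (be n F (neg (i2 hn))) = be n F (neg (i2 hn)) + a • be n F (i2 hn) := by
        rw [hc, rho_transv, form_be, be_apply, if_pos rfl, mul_one]
      have h3 := h1.2.2 (rho n F c (be n F (neg (i2 hn)))) (by rw [e1]; exact hP'.add (hP.smul a))
      rw [← rmul, inv_mul_cancel_right, e1, hB, hc, hs.conj_transv, rho_transv] at h3
      have e2 : sympForm n F (be n F (neg (i2 hn))) (s (be n F (i2 hn))) = d (c2 hn) := by
        rw [s2, sympForm_add_right, form_prp hP' hε, sympForm_smul_right, form_be, be_apply, if_pos rfl, mul_one,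
          add_zero]
      rw [e2, s2] at h3
      have h4 : InE (i0 hn) (i1 hn) ((φ a * (d (c2 hn) * d (c2 hn)) - a) • be n F (i2 hn)) := by
        have h5 := h3.sub (hε.smul (φ a * d (c2 hn)))
        convert h5 using 1
        ext m
        simp only [Pi.sub_apply, Pi.add_apply, Pi.smul_apply, smul_eq_mul]
        ring
      obtain ⟨x, y, e3⟩ := h4
      have e4 := congrFun e3 (i2 hn)
      have g0 : be n F (i0 hn) (i2 hn) = (0 : F) := by rw [be_apply, if_neg (d02 hn).1.symm]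
      have g1 : be n F (i1 hn) (i2 hn) = (0 : F) := by rw [be_apply, if_neg (d12 hn).1.symm]
      have g2 : be n F (i2 hn) (i2 hn) = (1 : F) := by rw [be_apply, if_pos rfl]
      simp only [Pi.add_apply, Pi.smul_apply, smul_eq_mul, g0, g1, g2, mul_zero, add_zero, mul_one] at e4
      exact sub_eq_zero.1 e4
    have hd : d (c2 hn) = 1 := by
      have h2 := key 1
      rw [map_one, one_mul] at h2
      exact eq_one_of_sq h2
    have hφ : φ = 1 := by
      ext b
      have h2 := key b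
      rw [hd, one_mul, mul_one] at h2
      exact h2
    rw [hφ] at hs
    obtain ⟨A, rfl, hA⟩ := H.exists_iota hs ha
    exact ⟨A, hT A hg, rfl⟩
  · refine le_o2 ((H.map_le QSL_le_Up).trans (le_centralizer_zc S)) (H.pS.to_le (H.map_le QSL_le_Up)) ?_
    refine le_norm fun g hg x hx => ?_
    obtain ⟨s, φ, hs, ha⟩ := H.acts hn (hY hg)
    obtain ⟨a, b, ha0, hb0, hza, hzb⟩ := H.exists_ab hn
    have key : ∀ B : Sy n F, ι B ∈ zc S → rho n F B * s = s * rho n F B := by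
      intro B hB
      have h1 := mem_centralizer_iff.1 hg _ hB
      have h2 := ha.rho_eq H.inj (A := B) (B := B) (by rw [← h1]; group)
      conv_lhs => rw [h2]
      rw [inv_mul_cancel_right]
    exact conj_map hs ha (fun A hA B hB => conj_QSL hs (fixE_of_comm hn hs ha0 (key _ hza))
      (fixL_of_comm hn hs hb0 (key _ hzb)) hA hB) hx

end Hyp

end Cfsg.Agent.Omega.All.SpN
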